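import Cfsg.Agent.Lib.RegOrbit.FittingClasses.Parts
import Cfsg.Agent.Lib.RegOrbit.Main

/-!
# The action on the primary parts
-/

set_option autoImplicit false
set_option linter.all false

namespace CfsgLib.RegOrbit

open MulAction

variable {V : Type*} [AddCommGroup V] [Finite V]
variable {p : ℕ} {G : Subgroup (AddMonoid.End V)ˣ}

local notation "E" => AddMonoid.End V

namespace Setup

variable (S : Setup p G) (s : ℕ)

/-- The primary part, written additively. -/
abbrev Wa : Type _ := Additive (S.Wq s)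

instance finite_wa : Finite (S.Wa s) := by
  haveI := finiteGroup (G := G)
  exact inferInstanceAs (Finite (S.Wq s))

theorem conj_mem_layer (g : G) {f : G} (hf : f ∈ S.layer s) : g * f * g⁻¹ ∈ S.layer s :=
  (S.layer_normal s).conj_mem f hf g

/-- Conjugation on the primary part. -/
noncomputable def wqMap (g : G) : S.Wq s →* S.Wq s :=
  QuotientGroup.map (S.zL s) (S.zL s)
    (MonoidHom.mk' (fun f => (⟨g * f * g⁻¹, S.conj_mem_layer s g f.2⟩ : S.layer s))
      fun a b => Subtype.ext (by simp [mul_assoc]))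
    fun f hf => Subgroup.mem_subgroupOf.2 (S.zNormal.conj_mem _ (Subgroup.mem_subgroupOf.1 hf) g)

theorem wqMap_mk (g : G) (f : S.layer s) :
    S.wqMap s g (f : S.Wq s) = ((⟨g * f * g⁻¹, S.conj_mem_layer s g f.2⟩ : S.layer s) : S.Wq s) := rfl

/-- Conjugation as a representation. -/
noncomputable def wEnd : G →* AddMonoid.End (S.Wa s) where
  toFun g := MonoidHom.toAdditive (S.wqMap s g)
  map_one' := by
    refine DFunLike.ext _ _ fun w => ?_
    obtain ⟨f, hf⟩ := QuotientGroup.mk_surjective (Additive.toMul w)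
    refine Additive.toMul.injective ?_
    show S.wqMap s 1 (Additive.toMul w) = Additive.toMul w
    rw [← hf, wqMap_mk]
    exact congrArg QuotientGroup.mk (Subtype.ext (by simp))
  map_mul' g h := by
    refine DFunLike.ext _ _ fun w => ?_
    obtain ⟨f, hf⟩ := QuotientGroup.mk_surjective (Additive.toMul w)
    refine Additive.toMul.injective ?_
    show S.wqMap s (g * h) (Additive.toMul w) = S.wqMap s g (S.wqMap s h (Additive.toMul w))
    rw [← hf, wqMap_mk, wqMap_mk, wqMap_mk]
    exact congrArg QuotientGroup.mk (Subtype.ext (by simp [mul_assoc]))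

/-- The representation by automorphisms. -/
noncomputable def wAct : G →* (AddMonoid.End (S.Wa s))ˣ := (S.wEnd s).toHomUnits

theorem wAct_mk (g : G) (f : S.layer s) :
    S.wAct s g • Additive.ofMul (f : S.Wq s) =
      Additive.ofMul ((⟨g * f * g⁻¹, S.conj_mem_layer s g f.2⟩ : S.layer s) : S.Wq s) := rfl

theorem wAct_ker {g : G} : S.wAct s g = 1 ↔ ∀ f ∈ S.layer s, g * f * g⁻¹ * f⁻¹ ∈ S.Z := by
  haveI := S.zNormal
  constructor
  · intro h f hf
    have h1 := S.wAct_mk s g ⟨f, hf⟩
    rw [h, one_smul] at h1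
    have h2 := Subgroup.mem_subgroupOf.1 (QuotientGroup.eq.1 (Additive.ofMul.injective h1))
    have h3 := S.zNormal.conj_mem _ h2 f
    simpa [mul_assoc] using h3
  · intro h
    refine Units.ext (DFunLike.ext _ _ fun w => ?_)
    obtain ⟨f, hf⟩ := QuotientGroup.mk_surjective (Additive.toMul w)
    have hw : w = Additive.ofMul (f : S.Wq s) := Additive.toMul.injective hf.symm
    show S.wAct s g • w = w
    rw [hw, wAct_mk]
    refine congrArg Additive.ofMul (QuotientGroup.eq.2 (Subgroup.mem_subgroupOf.2 ?_))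
    have h3 := S.zNormal.conj_mem' _ (inv_mem (h f f.2)) (f : G)
    simpa [mul_assoc] using h3

theorem F_le_ker : S.F ≤ (S.wAct s).ker := fun _ hf =>
  MonoidHom.mem_ker.2 ((S.wAct_ker s).2 fun a ha => S.cm_mem hf (S.layer_le s ha))

theorem nsmul_wa (w : S.Wa s) : s • w = 0 :=
  Additive.toMul.injective (by rw [toMul_nsmul]; exact S.pow_eq_one s _)

theorem compRed_range : CompRed (S.wAct s).range (S.Wa s) := by
  haveI := finiteGroup (G := G)
  intro U hU
  let M : Subgroup G := ((AddSubgroup.toSubgroup' U).comap (QuotientGroup.mk' (S.zL s))).map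
    (S.layer s).subtype
  have hML : M ≤ S.layer s := Subgroup.map_subtype_le _
  have hMF : M ≤ S.F := hML.trans (S.layer_le s)
  have hM : ∀ f : S.layer s, (f : G) ∈ M ↔ Additive.ofMul (f : S.Wq s) ∈ U := fun f => by
    constructor
    · rintro ⟨f', hf', e⟩
      rw [← show f' = f from Subtype.ext e]
      exact hf'
    · exact fun h => ⟨f, h, rfl⟩
  have hZM : S.Z ≤ M := fun z hz => (hM ⟨z, S.z_le_layer s hz⟩).2 (by
    rw [(QuotientGroup.eq_one_iff (N := S.zL s) (⟨z, S.z_le_layer s hz⟩ : S.layer s)).2 hz]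
    exact U.zero_mem)
  haveI : M.Normal := ⟨fun a ha g => by
    have h1 := hU ⟨S.wAct s g, g, rfl⟩ _ ((hM ⟨a, hML ha⟩).1 ha)
    change S.wAct s g • Additive.ofMul ((⟨a, hML ha⟩ : S.layer s) : S.Wq s) ∈ U at h1
    rw [wAct_mk] at h1
    exact (hM ⟨g * a * g⁻¹, S.conj_mem_layer s g (hML ha)⟩).2 h1⟩
  obtain ⟨hMZ, hdec⟩ := S.exists_mul_cent M hZM hMF
  haveI hCn : (Subgroup.centralizer (M : Set G)).Normal := inferInstance
  let P : Subgroup (S.layer s) := (Subgroup.centralizer (M : Set G)).subgroupOf (S.layer s)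
  refine ⟨Subgroup.toAddSubgroup (P.map (QuotientGroup.mk' (S.zL s))), ?_, ?_, ?_⟩
  · rintro ⟨_, g, rfl⟩ w ⟨f, hf, he⟩
    refine ⟨⟨g * f * g⁻¹, S.conj_mem_layer s g f.2⟩,
      Subgroup.mem_subgroupOf.2 (hCn.conj_mem _ (Subgroup.mem_subgroupOf.1 hf) g), ?_⟩
    show _ = Additive.toMul (S.wAct s g • w)
    rw [show w = Additive.ofMul (f : S.Wq s) from Additive.toMul.injective he.symm, wAct_mk]
    rfl
  · refine (AddSubgroup.eq_bot_iff_forall _).2 ?_
    rintro w ⟨hw1, f, hf, he⟩
    have hwU : Additive.ofMul (f : S.Wq s) ∈ U := by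
      rw [show Additive.ofMul (f : S.Wq s) = w from Additive.toMul.injective he]; exact hw1
    have hfZ : (f : G) ∈ S.Z := hMZ _ ((hM f).2 hwU) fun u hu =>
      (Subgroup.mem_centralizer_iff.1 hf u hu).symm
    refine Additive.toMul.injective ?_
    rw [← he]
    exact (QuotientGroup.eq_one_iff (N := S.zL s) f).2 hfZ
  · refine eq_top_iff.2 fun w _ => ?_
    obtain ⟨f, hf⟩ := QuotientGroup.mk_surjective (Additive.toMul w)
    obtain ⟨n, hn, hnc⟩ := hdec f (S.layer_le s f.2)
    have hnL : n ∈ S.layer s := hML hn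
    have e2 : w = Additive.ofMul ((⟨n, hnL⟩ : S.layer s) : S.Wq s)
        + Additive.ofMul ((((⟨n, hnL⟩ : S.layer s)⁻¹ * f : S.layer s)) : S.Wq s) := by
      refine Additive.toMul.injective ?_
      rw [← hf]
      conv_lhs => rw [show f = (⟨n, hnL⟩ : S.layer s) * ((⟨n, hnL⟩ : S.layer s)⁻¹ * f) from
        (mul_inv_cancel_left _ _).symm]
      rfl
    rw [e2]
    refine add_mem (AddSubgroup.mem_sup_left ((hM _).1 hn)) (AddSubgroup.mem_sup_right ?_)
    refine ⟨(⟨n, hnL⟩ : S.layer s)⁻¹ * f, ?_, rfl⟩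
    show n⁻¹ * (f : G) ∈ Subgroup.centralizer (M : Set G)
    exact Subgroup.mem_centralizer_iff.2 fun u hu => (hnc u hu).symm

theorem solvable_range : Group.IsSolvable (S.wAct s).range := by
  haveI := S.prim.solv
  exact Group.isSolvable_of_surjective (f := (S.wAct s).rangeRestrict)
    (S.wAct s).rangeRestrict_surjective

/-- An element of `CZ` acting trivially on every part of `F/Z` lies in `F`. -/
theorem mem_F_of_wAct {g : G} (hg : g ∈ S.CZ)
    (h : ∀ s ∈ (Nat.card (S.F ⧸ S.zF)).primeFactors, S.wAct s g = 1) : g ∈ S.F := by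
  haveI := finiteGroup (G := G)
  refine S.mem_F_of_trivial hg fun s hs f hf => ?_
  by_cases hd : s ∈ (Nat.card (S.F ⧸ S.zF)).primeFactors
  · exact (S.wAct_ker s).1 (h s hd) f hf
  · have h0 : (Nat.card (S.F ⧸ S.zF)).factorization s = 0 :=
      Nat.factorization_eq_zero_of_not_dvd fun hdvd =>
        hd (Nat.mem_primeFactors.2 ⟨hs, hdvd, Nat.card_pos.ne'⟩)
    have h1 : Nat.card (S.Wq s) = 1 := by rw [S.card_wq hs, h0, pow_zero]
    haveI := (Nat.card_eq_one_iff_unique.1 h1).1
    have h2 : S.wAct s g = 1 := Units.ext (DFunLike.ext _ _ fun w => by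
      haveI : Subsingleton (S.Wa s) := inferInstanceAs (Subsingleton (S.Wq s))
      exact Subsingleton.elim _ _)
    exact (S.wAct_ker s).1 h2 f hf

/-- The commutator of two classes. -/
noncomputable def bil (u v : S.Wq s) : G :=
  cm ((Quotient.out u : S.layer s) : G) ((Quotient.out v : S.layer s) : G)

theorem bil_mk (a b : S.layer s) : S.bil s (a : S.Wq s) (b : S.Wq s) = cm (a : G) (b : G) := by
  have key : ∀ (x : S.layer s), ∃ z : G, z ∈ S.Z ∧
      ((Quotient.out (x : S.Wq s) : S.layer s) : G) = z * x := by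
    intro x
    refine ⟨((Quotient.out (x : S.Wq s) : S.layer s) : G) * (x : G)⁻¹, ?_, by group⟩
    have h1 : (Quotient.out (x : S.Wq s) : S.layer s)⁻¹ * x ∈ S.zL s :=
      QuotientGroup.eq.1 (Quotient.out_eq _)
    have h2 := inv_mem (S.zNormal.conj_mem _ (Subgroup.mem_subgroupOf.1 h1)
      ((Quotient.out (x : S.Wq s) : S.layer s) : G))
    simpa [mul_assoc] using h2
  obtain ⟨z, hz, ha⟩ := key a
  obtain ⟨z', hz', hb⟩ := key b
  have haF := S.layer_le s a.2
  have hbF := S.layer_le s b.2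
  rw [bil, ha, hb, S.cm_mul_left (S.le hz) haF (mul_mem (S.le hz') hbF),
    S.cm_z_left hz (mul_mem (S.le hz') hbF), one_mul, S.cm_mul_right (S.le hz') hbF haF,
    ← cm_inv z' (a : G), S.cm_z_left hz' haF, inv_one, one_mul]

theorem bil_wAct {g : G} (hg : g ∈ S.CZ) (a b : S.layer s) :
    S.bil s (Additive.toMul (S.wAct s g • Additive.ofMul (a : S.Wq s)))
      (Additive.toMul (S.wAct s g • Additive.ofMul (b : S.Wq s))) = cm (a : G) (b : G) := by
  rw [wAct_mk, wAct_mk]
  show S.bil s (QuotientGroup.mk _) (QuotientGroup.mk _) = _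
  rw [bil_mk, ← conj_cm]
  rw [← Subgroup.mem_centralizer_iff.1 hg _ (S.cm_mem (S.layer_le s a.2) (S.layer_le s b.2)),
    mul_inv_cancel_right]

/-- The image of the centraliser of `Z` on a part of order `s²`. -/
theorem card_map_CZ_le {s : ℕ} (hs : s.Prime) (hcard : Nat.card (S.Wq s) = s ^ 2) :
    Nat.card (S.CZ.map (S.wAct s)) ≤ s * (s ^ 2 - 1) := by
  classical
  haveI := finiteGroup (G := G)
  haveI := Fact.mk hs
  obtain ⟨a, ha⟩ : ∃ a : S.layer s, (a : G) ∉ S.Z := by
    by_contra h
    push Not at h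
    haveI : Subsingleton (S.Wq s) := ⟨fun u v => by
      obtain ⟨u, rfl⟩ := QuotientGroup.mk_surjective u
      obtain ⟨v, rfl⟩ := QuotientGroup.mk_surjective v
      exact QuotientGroup.eq.2 (Subgroup.mem_subgroupOf.2 (h _))⟩
    rw [Nat.card_unique] at hcard
    exact (Nat.one_lt_pow two_ne_zero hs.one_lt).ne hcard
  obtain ⟨b, hab⟩ : ∃ b : S.layer s, cm (a : G) (b : G) ≠ 1 := by
    by_contra h
    push Not at h
    exact ha (S.eq_Z_of_layer a.2 fun u hu => cm_eq_one_iff.1 (h ⟨u, hu⟩))
  set ω := cm (a : G) (b : G)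
  set T := {x : S.Wq s × S.Wq s // S.bil s x.1 x.2 = ω}
  let F : S.CZ.map (S.wAct s) → T := fun r =>
    ⟨(Additive.toMul ((r : (AddMonoid.End (S.Wa s))ˣ) • Additive.ofMul (a : S.Wq s)),
      Additive.toMul ((r : (AddMonoid.End (S.Wa s))ˣ) • Additive.ofMul (b : S.Wq s))), by
      obtain ⟨g, hg, hgr⟩ := r.2
      show S.bil s _ _ = ω
      rw [← hgr]
      exact S.bil_wAct s hg a b⟩
  have hF : Function.Injective F := by
    intro r r' e
    refine Subtype.ext ?_
    set x : (AddMonoid.End (S.Wa s))ˣ := (r : (AddMonoid.End (S.Wa s))ˣ)⁻¹ * r'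
    have hx : ∀ c : S.layer s, c = a ∨ c = b → x • Additive.ofMul (c : S.Wq s) = Additive.ofMul (c : S.Wq s) := by
      rintro c (rfl | rfl) <;> rw [show x = _ * _ from rfl, mul_smul, inv_smul_eq_iff]
      · exact (Additive.toMul.injective (congrArg (fun t : T => t.1.1) e)).symm
      · exact (Additive.toMul.injective (congrArg (fun t : T => t.1.2) e)).symm
    let A : AddSubgroup (S.Wa s) :=
      { carrier := {w | x • w = w}
        zero_mem' := smul_zero _
        add_mem' := fun {u v} hu hv => by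
          show x • (u + v) = u + v
          rw [smul_add, show x • u = u from hu, show x • v = v from hv]
        neg_mem' := fun {u} hu => by
          show x • (-u) = -u
          rw [smul_neg, show x • u = u from hu] }
    have hA : A = ⊤ := by
      refine AddSubgroup.eq_top_of_card_eq A ?_
      have hWa : Nat.card (S.Wa s) = s ^ 2 := hcard
      have hd := A.card_addSubgroup_dvd_card
      rw [hWa] at hd
      obtain ⟨j, hj, hj'⟩ := (Nat.dvd_prime_pow hs).1 hd
      rw [hWa]
      by_contra hne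
      have haA : Additive.ofMul (a : S.Wq s) ∈ A := hx a (Or.inl rfl)
      have hle : AddSubgroup.zmultiples (Additive.ofMul (a : S.Wq s)) = A := by
        refine AddSubgroup.eq_of_le_of_card_ge (AddSubgroup.zmultiples_le_of_mem haA) ?_
        rw [hj', Nat.card_zmultiples]
        have ho : addOrderOf (Additive.ofMul (a : S.Wq s)) = s :=
          addOrderOf_eq_prime (S.nsmul_wa s _) fun h0 =>
            ha (Subgroup.mem_subgroupOf.1 ((QuotientGroup.eq_one_iff (N := S.zL s) a).1 h0))
        rw [ho]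
        have : j ≠ 2 := fun h2 => hne (h2 ▸ hj')
        calc s ^ j ≤ s ^ 1 := Nat.pow_le_pow_right hs.pos (by omega)
          _ = s := pow_one s
      have hbA : Additive.ofMul (b : S.Wq s) ∈ A := hx b (Or.inr rfl)
      rw [← hle] at hbA
      obtain ⟨i, hi⟩ := hbA
      simp only at hi
      have hbi : ((a ^ i : S.layer s) : S.Wq s) = (b : S.Wq s) := by
        rw [QuotientGroup.mk_zpow]
        exact congrArg Additive.toMul hi
      have h1 : cm (a : G) (b : G) = cm (a : G) ((a ^ i : S.layer s) : G) := by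
        rw [← S.bil_mk s a b, ← S.bil_mk s a (a ^ i), hbi]
      refine hab (h1.trans (cm_eq_one_iff.2 ?_))
      rw [Subgroup.coe_zpow]
      exact ((Commute.refl (a : G)).zpow_right i).eq
    have hx1 : x = 1 := Units.ext (DFunLike.ext _ _ fun w => (hA ▸ AddSubgroup.mem_top w : w ∈ A))
    exact inv_mul_eq_one.1 hx1
  refine (Nat.card_le_card_of_injective F hF).trans ?_
  let Φ : T ≃ Σ u : S.Wq s, {v : S.Wq s // S.bil s u v = ω} :=
    Equiv.subtypeProdEquivSigmaSubtype (fun u v => S.bil s u v = ω)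
  rw [Nat.card_congr Φ]
  haveI := Fintype.ofFinite (S.Wq s)
  rw [Nat.card_sigma, ← Finset.sum_sdiff (Finset.subset_univ ({1} : Finset (S.Wq s))), Finset.sum_singleton]
  have h1 : Nat.card {v : S.Wq s // S.bil s 1 v = ω} = 0 := by
    haveI : IsEmpty {v : S.Wq s // S.bil s 1 v = ω} := ⟨fun ⟨v, hv⟩ => by
      obtain ⟨v, rfl⟩ := QuotientGroup.mk_surjective v
      rw [← QuotientGroup.mk_one, S.bil_mk, Subgroup.coe_one] at hv
      exact hab (hv.symm.trans (by simp [cm]))⟩
    exact Nat.card_of_isEmpty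
  rw [h1, add_zero]
  refine (Finset.sum_le_card_nsmul _ _ s fun u hu => ?_).trans (le_of_eq ?_)
  · obtain ⟨u, rfl⟩ := QuotientGroup.mk_surjective u
    have hu1 : (u : G) ∉ S.Z := fun h => by
      simp only [Finset.mem_sdiff, Finset.mem_singleton] at hu
      exact hu.2 ((QuotientGroup.eq_one_iff u).2 h)
    obtain ⟨w, hw⟩ : ∃ w : S.layer s, cm (u : G) (w : G) ≠ 1 := by
      by_contra h
      push Not at h
      exact hu1 (S.eq_Z_of_layer u.2 fun y hy => cm_eq_one_iff.1 (h ⟨y, hy⟩))
    let C : Subgroup (S.Wq s) :=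
      { carrier := {v | S.bil s (u : S.Wq s) v = 1}
        one_mem' := by
          show S.bil s (u : S.Wq s) 1 = 1
          rw [← QuotientGroup.mk_one, S.bil_mk, Subgroup.coe_one]; simp [cm]
        mul_mem' := fun {x y} hx hy => by
          obtain ⟨x, rfl⟩ := QuotientGroup.mk_surjective x
          obtain ⟨y, rfl⟩ := QuotientGroup.mk_surjective y
          show S.bil s _ _ = 1
          rw [← QuotientGroup.mk_mul, S.bil_mk, Subgroup.coe_mul,
            S.cm_mul_right (S.layer_le s x.2) (S.layer_le s y.2) (S.layer_le s u.2),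
            ← S.bil_mk, ← S.bil_mk, show S.bil s _ _ = 1 from hx, show S.bil s _ _ = 1 from hy,
            mul_one]
        inv_mem' := fun {x} hx => by
          obtain ⟨x, rfl⟩ := QuotientGroup.mk_surjective x
          show S.bil s _ _ = 1
          rw [← QuotientGroup.mk_inv, S.bil_mk, Subgroup.coe_inv, cm_eq_one_iff]
          have : cm (u : G) (x : G) = 1 := (S.bil_mk s u x).symm.trans hx
          exact (Commute.inv_right (cm_eq_one_iff.1 this)).eq }
    have hC : Nat.card C ≤ s := by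
      have hd := C.card_subgroup_dvd_card
      rw [hcard] at hd
      obtain ⟨j, hj, hj'⟩ := (Nat.dvd_prime_pow hs).1 hd
      have : j ≠ 2 := fun h2 => by
        have hT : C = ⊤ := Subgroup.eq_top_of_card_eq C (by rw [hj', hcard, h2])
        have : (w : S.Wq s) ∈ C := hT ▸ Subgroup.mem_top _
        exact hw ((S.bil_mk s u w).symm.trans this)
      rw [hj']
      exact (Nat.pow_le_pow_right hs.pos (show j ≤ 1 by omega)).trans (by rw [pow_one])
    refine le_trans ?_ hC
    rcases isEmpty_or_nonempty {v : S.Wq s // S.bil s (u : S.Wq s) v = ω} with he | ⟨⟨v₀, hv₀⟩⟩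
    · simp
    refine Nat.card_le_card_of_injective (fun v => (⟨v₀⁻¹ * v.1, ?_⟩ : C)) fun v v' e => ?_
    · obtain ⟨v₀, rfl⟩ := QuotientGroup.mk_surjective v₀
      obtain ⟨⟨v, hv⟩, rfl⟩ : ∃ v', v' = v := ⟨v, rfl⟩
      obtain ⟨v, rfl⟩ := QuotientGroup.mk_surjective v
      show S.bil s _ _ = 1
      rw [← QuotientGroup.mk_inv, ← QuotientGroup.mk_mul, S.bil_mk, Subgroup.coe_mul,
        Subgroup.coe_inv]
      have e0 : cm (u : G) (v₀ : G) = ω := (S.bil_mk s u v₀).symm.trans hv₀
      have e1 : cm (u : G) (v : G) = ω := (S.bil_mk s u v).symm.trans hv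
      have hF0 := S.layer_le s v₀.2
      rw [S.cm_mul_right (inv_mem hF0) (S.layer_le s v.2) (S.layer_le s u.2), e1, ← e0,
        ← S.cm_mul_right (inv_mem hF0) hF0 (S.layer_le s u.2), inv_mul_cancel]
      simp [cm]
    · exact Subtype.ext (mul_left_cancel (congrArg Subtype.val e))
  · rw [Finset.card_sdiff, Finset.inter_univ, Finset.card_singleton, Finset.card_univ, ← Nat.card_eq_fintype_card,
      hcard, smul_eq_mul, mul_comm]

end Setup

end CfsgLib.RegOrbit
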