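import Cfsg.Agent.Lib.RegOrbit.Main

/-!
# Decompositions of completely reducible soluble linear groups
-/

set_option autoImplicit false
set_option linter.all false

namespace CfsgLib.RegOrbit

open MulAction

section Rep

variable {G V : Type*} [Group G] [AddCommGroup V] [DistribMulAction G V]

/-- The linear representation of an action. -/
noncomputable def rep (G V : Type*) [Group G] [AddCommGroup V] [DistribMulAction G V] :
    G →* (AddMonoid.End V)ˣ := (DistribMulAction.toAddMonoidEnd G V).toHomUnits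

theorem rep_smul (g : G) (v : V) : rep G V g • v = g • v := rfl

theorem rep_eq_one {g : G} : rep G V g = 1 ↔ ∀ v : V, g • v = v :=
  ⟨fun h v => by rw [← rep_smul, h, one_smul],
    fun h => Units.ext (DFunLike.ext _ _ fun v => h v)⟩

theorem irred_range (h : Irred G V) : Irred (rep G V).range V :=
  ⟨h.1, fun U hU => h.2 U fun g u hu => hU ⟨rep G V g, g, rfl⟩ u hu⟩

theorem compRed_rep_range (h : CompRed G V) : CompRed (rep G V).range V := by
  intro U hU
  obtain ⟨W, hW, h1, h2⟩ := h U fun g u hu => hU ⟨rep G V g, g, rfl⟩ u hu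
  refine ⟨W, ?_, h1, h2⟩
  rintro ⟨_, g, rfl⟩ w hw
  exact hW g w hw

theorem solvable_rep_range [Group.IsSolvable G] : Group.IsSolvable (rep G V).range :=
  Group.isSolvable_of_surjective (f := (rep G V).rangeRestrict) (rep G V).rangeRestrict_surjective

end Rep

section System

variable {G V : Type*} [Group G] [AddCommGroup V] [DistribMulAction G V]
variable {I : Type*} [Fintype I] (D : System G V I)

/-- The permutation of the components. -/
noncomputable def System.permHom : G →* Equiv.Perm I :=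
  letI := D.mulAction
  MulAction.toPermHom G I

theorem System.permHom_apply (g : G) (i : I) : D.permHom g i = D.img g i := rfl

theorem System.ker_le_stabilizer (i : I) :
    letI := D.mulAction
    D.permHom.ker ≤ stabilizer G i := fun g hg => by
  show D.img g i = i
  rw [← D.permHom_apply, MonoidHom.mem_ker.1 hg]
  rfl

/-- The action of the stabiliser of a component. -/
noncomputable def System.blockHom (i : I) :
    (letI := D.mulAction; stabilizer G i) →* (AddMonoid.End (D.W i))ˣ :=
  letI := D.mulAction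
  letI := D.compAction i
  rep (stabilizer G i) (D.W i)

theorem System.blockHom_smul (i : I) (g : (letI := D.mulAction; stabilizer G i)) (w : D.W i) :
    ((D.blockHom i g • w : D.W i) : V) = (g : G) • (w : V) := rfl

/-- The action of the kernel of the permutation of the components. -/
noncomputable def System.kerHom (i : I) : D.permHom.ker →* (AddMonoid.End (D.W i))ˣ :=
  (D.blockHom i).comp (Subgroup.inclusion (D.ker_le_stabilizer i))

theorem System.kerHom_range_le (i : I) : (D.kerHom i).range ≤ (D.blockHom i).range := by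
  rintro _ ⟨g, rfl⟩
  exact ⟨_, rfl⟩

theorem System.smul_eq_of_kerHom (g : D.permHom.ker) (h : ∀ i, D.kerHom i g = 1) (v : V) :
    (g : G) • v = v := by
  obtain ⟨e, rfl⟩ := D.decomp.2 v
  simp only [Finset.smul_sum]
  refine Finset.sum_congr rfl fun i _ => ?_
  have h1 : ((D.kerHom i g • e i : D.W i) : V) = (g : G) • (e i : V) := rfl
  rw [← h1, h i, one_smul]

theorem System.blockHom_irred (hirr : Irred G V) (i : I) :
    Irred (D.blockHom i).range (D.W i) := by
  letI := D.mulAction
  letI := D.compAction i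
  exact irred_range (D.irred_comp hirr i)

theorem System.blockHom_solvable [Group.IsSolvable G] (i : I) :
    Group.IsSolvable (D.blockHom i).range := by
  letI := D.mulAction
  letI := D.compAction i
  haveI : Group.IsSolvable (stabilizer G i) :=
    Group.isSolvable_of_isSolvable_injective (f := (stabilizer G i).subtype)
      (stabilizer G i).subtype_injective
  exact solvable_rep_range

theorem System.card_comp_eq (hirr : Irred G V) (i j : I) : Nat.card (D.W i) = Nat.card (D.W j) := by
  obtain ⟨t, ht⟩ := D.transitive hirr i j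
  have ht' : D.img t⁻¹ j = i := by
    letI := D.mulAction
    show t⁻¹ • j = i
    rw [inv_smul_eq_iff]
    exact ht.symm
  exact Nat.card_congr
    { toFun := fun w => ⟨t • (w : V), ht ▸ D.smul_mem t w.2⟩
      invFun := fun w => ⟨t⁻¹ • (w : V), ht' ▸ D.smul_mem t⁻¹ w.2⟩
      left_inv := fun w => Subtype.ext (inv_smul_smul t _)
      right_inv := fun w => Subtype.ext (smul_inv_smul t _) }

theorem System.card_eq_pow [Finite V] (hirr : Irred G V) (a : I) :
    Nat.card V = Nat.card (D.W a) ^ Fintype.card I := by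
  classical
  rw [← Nat.card_congr (Equiv.ofBijective _ D.decomp), Nat.card_pi,
    Finset.prod_congr rfl (fun i _ => D.card_comp_eq hirr i a), Finset.prod_const, Finset.card_univ]

theorem System.one_lt_card_comp [Finite V] (a : I) : 1 < Nat.card (D.W a) :=
  (AddSubgroup.one_lt_card_iff_ne_bot _).2 (D.ne_bot a)

/-- The order bound for an imprimitive group. -/
theorem System.card_le_factorial_mul [Finite V] [Finite G]
    (hfaith : ∀ g : G, (∀ v : V, g • v = v) → g = 1) (b : ℕ)
    (hb : ∀ i, Nat.card (D.blockHom i).range ≤ b) :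
    Nat.card G ≤ (Fintype.card I).factorial * b ^ Fintype.card I := by
  classical
  rw [← D.permHom.ker.index_mul_card, Subgroup.index_ker]
  refine Nat.mul_le_mul ((Subgroup.card_le_card_group _).trans (le_of_eq ?_)) ?_
  · rw [Nat.card_perm, Nat.card_eq_fintype_card]
  · refine (Nat.card_le_card_of_injective
      (fun g i => (⟨D.kerHom i g, D.kerHom_range_le i ⟨g, rfl⟩⟩ : (D.blockHom i).range))
      fun g h e => ?_).trans ?_
    · have h1 : ∀ v : V, ((g : G)⁻¹ * h) • v = v := fun v =>
        D.smul_eq_of_kerHom (g⁻¹ * h) (fun i => by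
          rw [map_mul, map_inv, inv_mul_eq_one]
          exact congrArg Subtype.val (congrFun e i)) v
      exact Subtype.ext (inv_mul_eq_one.1 (hfaith _ h1))
    · rw [Nat.card_pi, ← Finset.card_univ]
      exact Finset.prod_le_pow_card _ _ b fun i _ => hb i

end System

section Split

variable {V : Type*} [AddCommGroup V] [Finite V]

/-- The action on an invariant subgroup of a linear group. -/
noncomputable def subHom (R : Subgroup (AddMonoid.End V)ˣ) (U : AddSubgroup V)
    (hU : ∀ g : R, ∀ v ∈ U, g • v ∈ U) : R →* (AddMonoid.End U)ˣ :=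
  letI := subAction U hU
  rep R U

theorem subHom_smul (R : Subgroup (AddMonoid.End V)ˣ) (U : AddSubgroup V)
    (hU : ∀ g : R, ∀ v ∈ U, g • v ∈ U) (g : R) (u : U) :
    ((subHom R U hU g • u : U) : V) = g • (u : V) := rfl

theorem compRed_subHom {R : Subgroup (AddMonoid.End V)ˣ} (hcr : CompRed R V) (U : AddSubgroup V)
    (hU : ∀ g : R, ∀ v ∈ U, g • v ∈ U) : CompRed (subHom R U hU).range U :=
  @compRed_rep_range R U _ _ (subAction U hU) (compRed_sub hcr U hU)

theorem solvable_subHom {R : Subgroup (AddMonoid.End V)ˣ} [Group.IsSolvable R] (U : AddSubgroup V)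
    (hU : ∀ g : R, ∀ v ∈ U, g • v ∈ U) : Group.IsSolvable (subHom R U hU).range :=
  Group.isSolvable_of_surjective (f := (subHom R U hU).rangeRestrict)
    (subHom R U hU).rangeRestrict_surjective

theorem eq_one_of_subHom {R : Subgroup (AddMonoid.End V)ˣ} {U W : AddSubgroup V}
    (hsup : U ⊔ W = ⊤) (hU : ∀ g : R, ∀ v ∈ U, g • v ∈ U) (hW : ∀ g : R, ∀ v ∈ W, g • v ∈ W)
    {g : R} (h1 : subHom R U hU g = 1) (h2 : subHom R W hW g = 1) : g = 1 := by
  refine Subtype.ext (Units.ext (DFunLike.ext _ _ fun v => ?_))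
  show g • v = v
  obtain ⟨u, hu, w, hw, rfl⟩ := AddSubgroup.mem_sup.1 (hsup ▸ AddSubgroup.mem_top v : v ∈ U ⊔ W)
  have e1 : g • u = u := by
    rw [← show ((subHom R U hU g • (⟨u, hu⟩ : U) : U) : V) = g • u from rfl, h1, one_smul]
  have e2 : g • w = w := by
    rw [← show ((subHom R W hW g • (⟨w, hw⟩ : W) : W) : V) = g • w from rfl, h2, one_smul]
  rw [smul_add, e1, e2]

theorem card_mul_of_compl {U W : AddSubgroup V} (hinf : U ⊓ W = ⊥) (hsup : U ⊔ W = ⊤) :
    Nat.card U * Nat.card W = Nat.card V := by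
  rw [← Nat.card_prod]
  refine Nat.card_congr (Equiv.ofBijective (fun x : U × W => (x.1 : V) + x.2) ⟨?_, ?_⟩)
  · rintro ⟨u, w⟩ ⟨u', w'⟩ e
    simp only at e
    have h3 : (u : V) - u' = (w' : V) - w := by rw [sub_eq_sub_iff_add_eq_add, e, add_comm]
    have h4 : (u : V) - u' ∈ U ⊓ W := ⟨U.sub_mem u.2 u'.2, h3 ▸ W.sub_mem w'.2 w.2⟩
    rw [hinf, AddSubgroup.mem_bot] at h4
    have h5 : (u : V) = u' := sub_eq_zero.1 h4
    rw [h5] at e
    exact Prod.ext (Subtype.ext h5) (Subtype.ext (add_left_cancel e))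
  · intro v
    obtain ⟨u, hu, w, hw, rfl⟩ := AddSubgroup.mem_sup.1 (hsup ▸ AddSubgroup.mem_top v : v ∈ U ⊔ W)
    exact ⟨(⟨u, hu⟩, ⟨w, hw⟩), rfl⟩

/-- A completely reducible soluble group is primitive, reducible or imprimitive. -/
theorem prim_or_split {p : ℕ} (hp : p.Prime) (hexp : ∀ v : V, p • v = 0) [Nontrivial V]
    (R : Subgroup (AddMonoid.End V)ˣ) [Group.IsSolvable R] (hcr : CompRed R V) :
    IsPrim p R ∨
    (∃ (U W : AddSubgroup V), (∀ g : R, ∀ v ∈ U, g • v ∈ U) ∧ (∀ g : R, ∀ v ∈ W, g • v ∈ W) ∧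
      U ⊓ W = ⊥ ∧ U ⊔ W = ⊤ ∧ 1 < Nat.card U ∧ 1 < Nat.card W) ∨
    (Irred R V ∧ ∃ m : ℕ, 2 ≤ m ∧ Nonempty (System R V (Fin m))) := by
  by_cases hirr : Irred R V
  · by_cases hsys : ∃ m : ℕ, 2 ≤ m ∧ Nonempty (System R V (Fin m))
    · exact Or.inr (Or.inr ⟨hirr, hsys⟩)
    · push Not at hsys
      exact Or.inl ⟨hp, hexp, hirr, fun n hn => hsys n hn, inferInstance⟩
  · rw [Irred] at hirr
    push Not at hirr
    obtain ⟨U, hU, hU0, hU1⟩ := hirr inferInstance
    obtain ⟨W, hW, hUW, hUW'⟩ := hcr U hU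
    refine Or.inr (Or.inl ⟨U, W, hU, hW, hUW, hUW', (AddSubgroup.one_lt_card_iff_ne_bot _).2 hU0,
      (AddSubgroup.one_lt_card_iff_ne_bot _).2 fun e => hU1 ?_⟩)
    rw [← hUW', e, sup_bot_eq]

/-- The exponents of the factors of a prime power. -/
theorem exists_pow_split {s n a b : ℕ} (hs : s.Prime) (ha : 1 < a) (hb : 1 < b) (h : a * b = s ^ n) :
    ∃ i j, a = s ^ i ∧ b = s ^ j ∧ 1 ≤ i ∧ 1 ≤ j ∧ i + j = n := by
  obtain ⟨i, hi, rfl⟩ := (Nat.dvd_prime_pow hs).1 ⟨b, h.symm⟩
  obtain ⟨j, hj, rfl⟩ := (Nat.dvd_prime_pow hs).1 ⟨s ^ i, by rw [← h, mul_comm]⟩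
  refine ⟨i, j, rfl, rfl, ?_, ?_, Nat.pow_right_injective hs.two_le ?_⟩
  · rcases Nat.eq_zero_or_pos i with rfl | h' <;> first | omega | simp_all
  · rcases Nat.eq_zero_or_pos j with rfl | h' <;> first | omega | simp_all
  · simpa [pow_add] using h

/-- The exponent of a root of a prime power. -/
theorem exists_pow_root {s n a m : ℕ} (hs : s.Prime) (ha : 1 < a) (hm : 0 < m) (h : s ^ n = a ^ m) :
    ∃ d, a = s ^ d ∧ 1 ≤ d ∧ d * m = n := by
  obtain ⟨d, hd, rfl⟩ := (Nat.dvd_prime_pow hs).1 (h ▸ dvd_pow_self a hm.ne')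
  refine ⟨d, rfl, ?_, Nat.pow_right_injective hs.two_le ?_⟩
  · rcases Nat.eq_zero_or_pos d with rfl | h' <;> first | omega | simp_all
  · simpa [pow_mul] using h.symm

end Split

end CfsgLib.RegOrbit
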