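import Cfsg.Agent.Lib.RegOrbit.FittingClasses.Sixteen

/-!
# Class numbers modulo `F` in a primitive soluble group
-/

set_option autoImplicit false
set_option linter.all false

namespace CfsgLib.RegOrbit

universe u

open MulAction CfsgLib.ClassBounds

variable {V : Type u} [AddCommGroup V] [Finite V]
variable {p : ℕ} {G : Subgroup (AddMonoid.End V)ˣ}

theorem le_three_pow : ∀ n : ℕ, 1 ≤ n → n ≤ 3 ^ (n - 1) := by
  intro n hn
  have h := Nat.lt_pow_self (n := n - 1) (show 1 < 3 by norm_num)
  omega

theorem sum_sub_one_le {ι : Type*} (T : Finset ι) (t : ι → ℕ) (h : ∀ i ∈ T, 1 ≤ t i) :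
    ∑ i ∈ T, (t i - 1) ≤ (∏ i ∈ T, t i) - 1 := by
  classical
  induction T using Finset.induction_on with
  | empty => simp
  | insert i T hi ih =>
    rw [Finset.sum_insert hi, Finset.prod_insert hi]
    have h1 := h i (Finset.mem_insert_self _ _)
    have h2 := ih fun j hj => h j (Finset.mem_insert_of_mem hj)
    have h3 : 1 ≤ ∏ j ∈ T, t j := Finset.one_le_prod' fun j hj => h j (Finset.mem_insert_of_mem hj)
    have : t i + ∏ j ∈ T, t j ≤ t i * ∏ j ∈ T, t j + 1 := by
      obtain ⟨a, ha⟩ := Nat.le.dest h1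
      obtain ⟨b, hb⟩ := Nat.le.dest h3
      rw [← ha, ← hb]
      ring_nf
      omega
    omega

/-- An abelian linear group on `s²` vectors has at most `s²` elements. -/
theorem card_le_sq_of_comm {W : Type*} [AddCommGroup W] [Finite W] {s : ℕ} (hs : s.Prime)
    (hexp : ∀ w : W, s • w = 0) (hW : Nat.card W = s ^ 2) (A : Subgroup (AddMonoid.End W)ˣ)
    (hab : ∀ g h : A, g * h = h * g) : Nat.card A ≤ s ^ 2 := by
  classical
  haveI := Fact.mk hs
  have hgen : ∀ a b : W, a ≠ 0 → b ∉ AddSubgroup.zmultiples a → ∀ g : A, g • a = a → g • b = b → g = 1 := by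
    intro a b ha hb g hga hgb
    let T : AddSubgroup W :=
      { carrier := {w | g • w = w}
        zero_mem' := smul_zero _
        add_mem' := fun {u v} hu hv => by
          show g • (u + v) = u + v
          rw [smul_add, show g • u = u from hu, show g • v = v from hv]
        neg_mem' := fun {u} hu => by
          show g • (-u) = -u
          rw [smul_neg, show g • u = u from hu] }
    have hd := T.card_addSubgroup_dvd_card
    rw [hW] at hd
    obtain ⟨j, hj, hj'⟩ := (Nat.dvd_prime_pow hs).1 hd
    have hT : T = ⊤ := by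
      refine AddSubgroup.eq_top_of_card_eq T ?_
      rw [hW, hj']
      by_contra hne
      have hj2 : j ≤ 1 := by
        have : j ≠ 2 := fun e => hne (by rw [e])
        omega
      have : AddSubgroup.zmultiples a = T := by
        refine AddSubgroup.eq_of_le_of_card_ge (AddSubgroup.zmultiples_le_of_mem hga) ?_
        rw [hj', Nat.card_zmultiples, addOrderOf_eq_prime (hexp a) ha]
        exact (Nat.pow_le_pow_right hs.pos hj2).trans (by rw [pow_one])
      exact hb (this ▸ (hgb : b ∈ T))
    exact Subtype.ext (Units.ext (DFunLike.ext _ _ fun w => (hT ▸ AddSubgroup.mem_top w : w ∈ T)))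
  have hW0 : Nontrivial W := Finite.one_lt_card_iff_nontrivial.1
    (hW ▸ Nat.one_lt_pow two_ne_zero hs.one_lt)
  by_cases h : ∃ (a : W) (g : A), a ≠ 0 ∧ g • a ∉ AddSubgroup.zmultiples a
  · obtain ⟨a, g, ha, hg⟩ := h
    refine le_trans (Nat.card_le_card_of_injective (fun x : A => x • a) fun x y e => ?_) hW.le
    refine inv_mul_eq_one.1 (hgen a (g • a) ha hg _ ?_ ?_)
    · rw [mul_smul, inv_smul_eq_iff]; exact e.symm
    · rw [← mul_smul, hab, mul_smul, mul_smul, show y • a = x • a from e.symm, inv_smul_smul]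
  · push Not at h
    obtain ⟨a, ha⟩ := exists_ne (0 : W)
    have hlt : Nat.card (AddSubgroup.zmultiples a) = s := by
      rw [Nat.card_zmultiples, addOrderOf_eq_prime (hexp a) ha]
    obtain ⟨b, hb⟩ : ∃ b, b ∉ AddSubgroup.zmultiples a := by
      by_contra hc
      push Not at hc
      have := AddSubgroup.card_le_of_le (show (⊤ : AddSubgroup W) ≤ AddSubgroup.zmultiples a from fun w _ => hc w)
      rw [AddSubgroup.card_top, hlt, hW] at this
      nlinarith [hs.two_le]
    have hb0 : b ≠ 0 := fun e => hb (e ▸ zero_mem _)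
    refine le_trans (Nat.card_le_card_of_injective
      (fun x : A => ((⟨x • a, h a x ha⟩ : AddSubgroup.zmultiples a),
        (⟨x • b, h b x hb0⟩ : AddSubgroup.zmultiples b))) fun x y e => ?_) ?_
    · refine inv_mul_eq_one.1 (hgen a b ha hb _ ?_ ?_)
      · rw [mul_smul, inv_smul_eq_iff]; exact (congrArg Subtype.val (congrArg Prod.fst e)).symm
      · rw [mul_smul, inv_smul_eq_iff]; exact (congrArg Subtype.val (congrArg Prod.snd e)).symm
    · rw [Nat.card_prod, hlt, Nat.card_zmultiples, addOrderOf_eq_prime (hexp b) hb0, pow_two]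

namespace Setup

variable (S : Setup p G)

/-- Class numbers of the images on a part. -/
theorem kcl_map_le {s a : ℕ} (hs : s ∈ S.primes) (ha : 1 ≤ a)
    (hcard : Nat.card (S.Wq s) = (s ^ a) ^ 2) (H : Subgroup G) (hH : H ≤ S.CZ) :
    kcl (H.map (S.wAct s)) ≤ 3 ^ (s ^ a - 1) := by
  haveI := finiteGroup (G := G)
  have hsp := S.prime_of_mem hs
  haveI := Fact.mk hsp
  have hWa : Nat.card (S.Wa s) = (s ^ a) ^ 2 := hcard
  set M := H.map (S.wAct s) with hM
  haveI : Finite M := Finite.of_injective (fun x : M => fun w : S.Wa s => x • w)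
    fun x y e => eq_of_smul fun w => congrFun e w
  haveI : Finite (S.wAct s).range := Finite.of_injective (fun x : (S.wAct s).range => fun w : S.Wa s => x • w)
    fun x y e => eq_of_smul fun w => congrFun e w
  have hMR : M ≤ (S.wAct s).range := Subgroup.map_le_range _ _
  have hsolv := S.solvable_range s
  haveI := hsolv
  have hcr := S.compRed_range s
  rcases Nat.lt_or_ge a 2 with ha2 | ha2
  · obtain rfl : a = 1 := by omega
    rw [pow_one] at hWa hcard ⊢
    rcases (show s = 2 ∨ s = 3 ∨ 5 ≤ s by
        have := hsp.two_le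
        rcases Nat.lt_or_ge s 5 with h | h
        · interval_cases s <;> first | omega | exact absurd hsp (by norm_num)
        · omega) with rfl | rfl | h5
    · exact kcl_le_three M hWa
    · exact kcl_le_nine M (S.nsmul_wa 3) hWa
    have hcz : Nat.card M ≤ s * (s ^ 2 - 1) := by
      refine le_trans ?_ (S.card_map_CZ_le hsp hcard)
      haveI : Finite (S.CZ.map (S.wAct s)) := Finite.of_injective
        (fun x : S.CZ.map (S.wAct s) => fun w : S.Wa s => x • w) fun x y e => eq_of_smul fun w => congrFun e w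
      exact Subgroup.card_le_of_le (Subgroup.map_mono hH)
    rcases Nat.lt_or_ge s 7 with h7 | h7
    · obtain rfl : s = 5 := by
        interval_cases s
        · rfl
        · exact absurd hsp (by norm_num)
      by_cases hab : ∀ g h : M, g * h = h * g
      · exact (kcl_le_card M).trans ((card_le_sq_of_comm hsp (S.nsmul_wa 5) hWa M hab).trans (by norm_num))
      · push Not at hab
        have h8 := eight_kcl_le hab
        norm_num at hcz ⊢
        omega
    · refine (kcl_le_card M).trans (hcz.trans (le_trans ?_ (cube_le s h7)))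
      calc s * (s ^ 2 - 1) ≤ s * s ^ 2 := Nat.mul_le_mul_left _ (Nat.sub_le _ _)
        _ = s ^ 3 := by ring
  · have hWpow : Nat.card (S.Wa s) = s ^ (a * 2) := by rw [hWa, pow_mul]
    have hcardR : kcl M ≤ Nat.card (S.wAct s).range :=
      (kcl_le_card M).trans (Subgroup.card_le_of_le hMR)
    rcases Nat.lt_or_ge (s ^ a) 16 with h16 | h16
    · have hs4 : s < 4 := by
        by_contra hc
        push Not at hc
        have := (Nat.pow_le_pow_left hc a)
        have := Nat.pow_le_pow_right (show 1 ≤ 4 by norm_num) ha2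
        omega
      have ha4 : a < 4 := by
        by_contra hc
        push Not at hc
        have := (Nat.pow_le_pow_left hsp.two_le a)
        have := Nat.pow_le_pow_right (show 1 ≤ 2 by norm_num) hc
        omega
      have := hsp.two_le
      interval_cases s
      · interval_cases a
        · refine le_trans (le_of_eq (kcl_congr (Subgroup.subgroupOfEquivOfLe hMR).symm)) ?_
          exact kcl_le_sixteen (S.wAct 2).range (S.nsmul_wa 2) hWpow hsolv hcr _
        · refine hcardR.trans ((table_two.{u} (3 * 2) (S.Wa 2) _ hWpow (by decide) (S.nsmul_wa 2) hsolv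
            hcr).trans ?_)
          decide
      · obtain rfl : a = 2 := by
          interval_cases a
          · rfl
          · norm_num at h16
        refine hcardR.trans ((table_three.{u} (2 * 2) (S.Wa 3) _ hWpow (by decide) (S.nsmul_wa 3) hsolv
          hcr).trans ?_)
        decide
    · haveI : Nontrivial (S.Wa s) := Finite.one_lt_card_iff_nontrivial.1
        (hWa ▸ Nat.one_lt_pow two_ne_zero (by omega))
      have h5 := five_mul_card_le (S.wAct s).range hcr
      rw [hWa, show ((s ^ a) ^ 2) ^ 3 = (s ^ a) ^ 6 by ring] at h5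
      have h6 := pow_six_le (s ^ a) h16
      omega

/-- Class numbers of subgroups modulo `F`. -/
theorem kcl_map_mk_le [S.F.Normal] {r : ℕ} (hr : Nat.card V = p ^ r) (H : Subgroup G) :
    kcl (H.map (QuotientGroup.mk' S.F)) ≤ 3 ^ (r - 1) := by
  classical
  haveI := finiteGroup (G := G)
  obtain ⟨f, hK, hf, hidx⟩ := S.index_CZ_le
  have hre : f * S.dimK = r := by
    have h1 := S.card_eq_pow_dimK
    rw [hK, hr, ← pow_mul] at h1
    exact (Nat.pow_right_injective S.prim.prime.two_le h1).symm
  obtain ⟨t, ht, hte⟩ := S.exists_part_size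
  let π := QuotientGroup.mk' S.F
  set C := S.CZ.map π with hC
  set Hb := H.map π with hHb
  have hCidx : C.index ≤ f := le_trans (Nat.le_of_dvd (Nat.pos_of_ne_zero Subgroup.index_ne_zero_of_finite)
    (S.CZ.index_map_dvd (QuotientGroup.mk'_surjective S.F))) hidx
  refine (kcl_le_index_mul (C.subgroupOf Hb)).trans ?_
  have h1 : (C.subgroupOf Hb).index ≤ f := by
    refine le_trans ?_ hCidx
    show C.relIndex Hb ≤ _
    refine (Subgroup.relIndex_le_of_le_right le_top
      (by rw [Subgroup.relIndex_top_right]; exact Subgroup.index_ne_zero_of_finite)).trans ?_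
    rw [Subgroup.relIndex_top_right]
  let φ : ∀ s : ℕ, C →* (AddMonoid.End (S.Wa s))ˣ := fun s =>
    (QuotientGroup.lift S.F (S.wAct s) (S.F_le_ker s)).comp C.subtype
  have h2 : kcl (C.subgroupOf Hb) ≤ ∏ s ∈ S.primes, 3 ^ (t s - 1) := by
    let j : C.subgroupOf Hb →* C := MonoidHom.mk' (fun x => ⟨((x : Hb) : G ⧸ S.F), x.2⟩) fun x y => rfl
    have hj : Function.Injective j := fun x y e =>
      Subtype.ext (Subtype.ext (congrArg (fun z : C => (z : G ⧸ S.F)) e))
    rw [← kcl_range_of_injective j hj]
    refine kcl_le_prod S.primes φ _ (fun s hs K => ?_) j.range fun x _ hx => ?_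
    · obtain ⟨a, ha, hta, hcard⟩ := ht s hs
      rw [hta]
      let K' : Subgroup G := (K.map C.subtype).comap π ⊓ S.CZ
      have e : K.map (φ s) = K'.map (S.wAct s) := by
        apply le_antisymm
        · rintro _ ⟨x, hx, rfl⟩
          obtain ⟨g, hg, hgx⟩ := x.2
          refine ⟨g, ⟨⟨x, hx, hgx.symm⟩, hg⟩, ?_⟩
          show S.wAct s g = QuotientGroup.lift S.F (S.wAct s) (S.F_le_ker s) (x : G ⧸ S.F)
          rw [← hgx]
          rfl
        · rintro _ ⟨g, ⟨⟨x, hx, hxg⟩, -⟩, rfl⟩
          refine ⟨x, hx, ?_⟩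
          show QuotientGroup.lift S.F (S.wAct s) (S.F_le_ker s) (x : G ⧸ S.F) = S.wAct s g
          rw [show (x : G ⧸ S.F) = π g from hxg]
          rfl
      rw [e]
      exact S.kcl_map_le hs ha hcard K' inf_le_right
    · obtain ⟨g, hg, hgx⟩ := x.2
      refine Subtype.ext ?_
      rw [← hgx]
      refine (QuotientGroup.eq_one_iff g).2 (S.mem_F_of_wAct hg fun s hs => ?_)
      have := hx s hs
      change QuotientGroup.lift S.F (S.wAct s) (S.F_le_ker s) (x : G ⧸ S.F) = 1 at this
      rwa [← hgx] at this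
  refine (Nat.mul_le_mul h1 h2).trans ?_
  rw [Finset.prod_pow_eq_pow_sum]
  refine (Nat.mul_le_mul (le_three_pow f hf) (Nat.pow_le_pow_right (by norm_num)
    (sum_sub_one_le _ _ fun s hs => ?_))).trans ?_
  · obtain ⟨a, -, hta, -⟩ := ht s hs
    rw [hta]; exact Nat.one_le_pow _ _ (S.prime_of_mem hs).pos
  rw [← pow_add]
  refine Nat.pow_le_pow_right (by norm_num) ?_
  change ∏ s ∈ S.primes, t s ≤ S.dimK at hte
  have he := S.dimK_pos
  rw [← hre]
  obtain ⟨x, hx⟩ := Nat.le.dest hf
  obtain ⟨y, hy⟩ := Nat.le.dest (show 1 ≤ S.dimK from he)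
  have : (1 + x) * (1 + y) = 1 + x + y + x * y := by ring
  rw [← hx, ← hy, this]
  omega

end Setup

end CfsgLib.RegOrbit
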