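import Cfsg.Agent.Lib.RegOrbit.FittingClasses.Engine
import Cfsg.Agent.Lib.RegOrbit.MainTwo
import Cfsg.Agent.Lib.ClassCount.Bounds.SolvablePerm
import Cfsg.Agent.Lib.Core.Cores

/-!
# Class numbers of subgroups of a coprime soluble linear group modulo its Fitting subgroup
-/

set_option autoImplicit false
set_option linter.all false

namespace CfsgLib.RegOrbit

universe u

open MulAction CfsgLib.ClassBounds

section Maps

variable {G A B Q : Type*} [Group G] [Finite G] [Group A] [Group B] [Group Q]

theorem kcl_map_le_of_ker (H : Subgroup G) (f : G →* A) (g : G →* B)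
    (h : ∀ x ∈ H, g x = 1 → f x = 1) : kcl (H.map f) ≤ kcl (H.map g) := by
  let f' := f.subgroupMap H
  let g' := g.subgroupMap H
  have hg : Function.Surjective g' := g.subgroupMap_surjective H
  have hf : Function.Surjective f' := f.subgroupMap_surjective H
  haveI : Finite (H.map g) := Finite.of_surjective _ hg
  let φ := MonoidHom.liftOfSurjective g' hg ⟨f', fun x hx => MonoidHom.mem_ker.2 (Subtype.ext
    (h x x.2 (congrArg Subtype.val (MonoidHom.mem_ker.1 hx))))⟩
  have hφ : Function.Surjective φ := fun y => by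
    obtain ⟨x, rfl⟩ := hf y
    exact ⟨g' x, MonoidHom.liftOfRightInverse_comp_apply g' _ _ _ x⟩
  exact Nat.card_le_card_of_surjective _ (ConjClasses.map_surjective hφ)

theorem kcl_map_le_split (H : Subgroup G) (π : G →* Q) (f : G →* A) :
    kcl (H.map π) ≤ kcl (H.map f) * kcl ((H ⊓ f.ker).map π) := by
  refine (kcl_map_le_of_ker H π (π.prod f) fun x _ hx => congrArg Prod.fst hx).trans ?_
  set P := H.map (π.prod f)
  haveI : Finite P := Finite.of_surjective _ ((π.prod f).subgroupMap_surjective H)
  let χ : P →* A := (MonoidHom.snd Q A).comp P.subtype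
  have e1 : χ.range = H.map f := by
    rw [MonoidHom.range_comp, Subgroup.range_subtype, Subgroup.map_map, MonoidHom.snd_comp_prod]
  let j : χ.ker →* Q := ((MonoidHom.fst Q A).comp P.subtype).comp χ.ker.subtype
  have hj : Function.Injective j := fun x y e => Subtype.ext (Subtype.ext (Prod.ext e
    ((MonoidHom.mem_ker.1 x.2).trans (MonoidHom.mem_ker.1 y.2).symm)))
  have e2 : j.range = (H ⊓ f.ker).map π := by
    apply le_antisymm
    · rintro _ ⟨⟨⟨_, g, hg, rfl⟩, hx⟩, rfl⟩
      exact ⟨g, ⟨hg, hx⟩, rfl⟩
    · rintro _ ⟨g, ⟨hg, hgk⟩, rfl⟩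
      exact ⟨⟨⟨(π g, f g), g, hg, rfl⟩, hgk⟩, rfl⟩
  refine (kcl_le_ker_range χ).trans (le_of_eq ?_)
  rw [mul_comm, kcl_congr (MulEquiv.subgroupCongr e1), ← kcl_range_of_injective j hj,
    kcl_congr (MulEquiv.subgroupCongr e2)]

end Maps

/-- The bound for the modules smaller than `n`. -/
def FitBelow (p n : ℕ) : Prop :=
  ∀ (V : Type u) [AddCommGroup V] [Finite V] (R : Subgroup (AddMonoid.End V)ˣ), Nat.card V < n →
    (∀ v : V, p • v = 0) → Group.IsSolvable R → (Nat.card R).Coprime p → ∀ r : ℕ, 1 ≤ r →
      Nat.card V = p ^ r → ∀ H : Subgroup R,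
        kcl (H.map (QuotientGroup.mk' (Cfsg.fittingSubgroup R))) ≤ 3 ^ (r - 1)

theorem kcl_fitting_main (p : ℕ) (hp : p.Prime) : ∀ n, FitBelow.{u} p n := by
  haveI := Fact.mk hp
  intro n
  induction n with
  | zero => intro V _ _ R h; exact absurd h (Nat.not_lt_zero _)
  | succ n ih =>
  intro V _ _ R hn hexp hsolv hcop r hr hV H
  rcases Nat.lt_or_ge (Nat.card V) n with hlt | hge
  · exact ih V R hlt hexp hsolv hcop r hr hV H
  replace hn : Nat.card V = n := by omega
  haveI := hsolv
  haveI := finiteGroup (G := R)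
  haveI : Nontrivial V := Finite.one_lt_card_iff_nontrivial.1 (hV ▸ Nat.one_lt_pow (by omega) hp.one_lt)
  rcases prim_or_split hp hexp R (compRed_of_coprime hexp hcop) with hprim |
      ⟨U, W, hU, hW, hinf, hsup, h1, h2⟩ | ⟨hirr, m, hm, ⟨D⟩⟩
  · obtain ⟨S⟩ := exists_setup hprim
    haveI := S.fNormal
    have hnil : Group.IsNilpotent S.F := by
      have hk : (S.Z.subgroupOf S.F) ≤ Subgroup.center S.F := fun z hz =>
        Subgroup.mem_center_iff.2 fun f => Subtype.ext (S.fCentral f f.2 z hz)
      letI cq : CommGroup (S.F ⧸ S.zF) :=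
        { (inferInstance : Group (S.F ⧸ S.zF)) with mul_comm := S.comm_quot }
      haveI : Group.IsNilpotent (S.F ⧸ S.zF) := inferInstance
      exact Subgroup.isNilpotent_of_ker_le_center (QuotientGroup.mk' S.zF)
        (by rw [QuotientGroup.ker_mk']; exact hk)
    have hF : S.F ≤ Cfsg.fittingSubgroup R := CfsgLib.Core.le_fittingSubgroup hnil
    refine (kcl_map_le_of_ker H _ (QuotientGroup.mk' S.F) fun x _ hx =>
      (QuotientGroup.eq_one_iff x).2 (hF ((QuotientGroup.eq_one_iff x).1 hx))).trans ?_
    exact S.kcl_map_mk_le hV H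
  · obtain ⟨i, j, hi, hj, hi1, hj1, hij⟩ :=
      exists_pow_split hp h1 h2 ((card_mul_of_compl hinf hsup).trans hV)
    set f := subHom R U hU
    set g := subHom R W hW
    haveI : Finite f.range := Finite.of_surjective _ f.rangeRestrict_surjective
    haveI : Finite g.range := Finite.of_surjective _ g.rangeRestrict_surjective
    set FU := Cfsg.fittingSubgroup f.range
    set FW := Cfsg.fittingSubgroup g.range
    let f' : R →* f.range ⧸ FU := (QuotientGroup.mk' FU).comp f.rangeRestrict
    let g' : R →* g.range ⧸ FW := (QuotientGroup.mk' FW).comp g.rangeRestrict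
    have hM : f'.ker ⊓ g'.ker ≤ Cfsg.fittingSubgroup R := by
      haveI := CfsgLib.Core.isNilpotent_fittingSubgroup f.range
      haveI := CfsgLib.Core.isNilpotent_fittingSubgroup g.range
      let ψ : (f'.ker ⊓ g'.ker : Subgroup R) →* FU × FW := MonoidHom.mk'
        (fun x => (⟨f.rangeRestrict x, (QuotientGroup.eq_one_iff _).1 x.2.1⟩,
          ⟨g.rangeRestrict x, (QuotientGroup.eq_one_iff _).1 x.2.2⟩))
        fun x y => Prod.ext (Subtype.ext (map_mul f.rangeRestrict (x : R) y))
          (Subtype.ext (map_mul g.rangeRestrict (x : R) y))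
      have hψ : Function.Injective ψ := (injective_iff_map_eq_one _).2 fun x hx => Subtype.ext
        (eq_one_of_subHom hsup hU hW
          (congrArg (fun z : FU × FW => ((z.1 : f.range) : (AddMonoid.End U)ˣ)) hx)
          (congrArg (fun z : FU × FW => ((z.2 : g.range) : (AddMonoid.End W)ˣ)) hx))
      exact CfsgLib.Core.le_fittingSubgroup
        (Group.nilpotent_of_mulEquiv (MonoidHom.ofInjective hψ).symm)
    have hlt1 : p ^ i < n := by
      rw [← hn, hV]; exact Nat.pow_lt_pow_right hp.one_lt (by omega)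
    have hlt2 : p ^ j < n := by
      rw [← hn, hV]; exact Nat.pow_lt_pow_right hp.one_lt (by omega)
    refine (kcl_map_le_split H _ f').trans ?_
    refine (Nat.mul_le_mul_left _ (kcl_map_le_of_ker (H ⊓ f'.ker) _ g' fun x hx hx2 =>
      (QuotientGroup.eq_one_iff x).2 (hM ⟨hx.2, hx2⟩))).trans ?_
    refine (Nat.mul_le_mul (le_of_eq_of_le ?_ (ih U f.range (hi ▸ hlt1) (fun w => Subtype.ext (hexp w))
        (solvable_subHom U hU) (hcop.coprime_dvd_left (Subgroup.card_range_dvd f)) i hi1 hi
        (H.map f.rangeRestrict)))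
      (le_of_eq_of_le ?_ (ih W g.range (hj ▸ hlt2) (fun w => Subtype.ext (hexp w))
        (solvable_subHom W hW) (hcop.coprime_dvd_left (Subgroup.card_range_dvd g)) j hj1 hj
        ((H ⊓ f'.ker).map g.rangeRestrict)))).trans ?_
    · rw [Subgroup.map_map]
    · rw [Subgroup.map_map]
    · rw [← pow_add]
      exact Nat.pow_le_pow_right (by norm_num) (by omega)
  · let a : Fin m := ⟨0, by omega⟩
    have hVa := D.card_eq_pow hirr a
    rw [hV, Fintype.card_fin] at hVa
    obtain ⟨d, hd, hd1, hdm⟩ := exists_pow_root hp (D.one_lt_card_comp a) (by omega) hVa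
    set K := D.permHom.ker with hK
    let Fi : ∀ i, Subgroup (D.blockHom i).range := fun i => Cfsg.fittingSubgroup (D.blockHom i).range
    let k : ∀ i, K →* (D.blockHom i).range := fun i =>
      (D.blockHom i).rangeRestrict.comp (Subgroup.inclusion (D.ker_le_stabilizer i))
    haveI : ∀ i, Finite (D.blockHom i).range := fun i =>
      Finite.of_surjective _ (D.blockHom i).rangeRestrict_surjective
    haveI : ∀ i, (Fi i).Normal := fun i => inferInstanceAs (Cfsg.fittingSubgroup (D.blockHom i).range).Normal
    let φ : ∀ i, K →* (D.blockHom i).range ⧸ Fi i := fun i => (QuotientGroup.mk' (Fi i)).comp (k i)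
    let M : Subgroup K := ⨅ i, (φ i).ker
    haveI : M.Normal := Subgroup.normal_iInf_normal fun i => inferInstance
    have hMF : M ≤ Cfsg.fittingSubgroup K := by
      haveI : ∀ i, Group.IsNilpotent (Fi i) := fun i => CfsgLib.Core.isNilpotent_fittingSubgroup _
      let ψ : M →* ∀ i, Fi i := MonoidHom.mk'
        (fun x i => ⟨k i x, (QuotientGroup.eq_one_iff _).1 ((Subgroup.mem_iInf.1 x.2) i)⟩)
        fun x y => funext fun i => Subtype.ext (map_mul (k i) (x : K) y)
      have hψ : Function.Injective ψ := (injective_iff_map_eq_one _).2 fun x hx =>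
        Subtype.ext (Subtype.ext (Subtype.ext (Units.ext (DFunLike.ext _ _ fun v =>
          D.smul_eq_of_kerHom (x : K) (fun i => congrArg
            (fun z : ∀ i, Fi i => ((z i : (D.blockHom i).range) : (AddMonoid.End (D.W i))ˣ)) hx) v))))
      exact CfsgLib.Core.le_fittingSubgroup
        (Group.nilpotent_of_mulEquiv (MonoidHom.ofInjective hψ).symm)
    have hKF : (Cfsg.fittingSubgroup K).map K.subtype ≤ Cfsg.fittingSubgroup R := by
      haveI : ((Cfsg.fittingSubgroup K).map K.subtype).Normal :=
        ConjAct.normal_of_characteristic_of_normal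
      haveI := CfsgLib.Core.isNilpotent_fittingSubgroup K
      exact CfsgLib.Core.le_fittingSubgroup (CfsgLib.Core.isNilpotent_map K.subtype _)
    refine (kcl_map_le_split H _ D.permHom).trans ?_
    have b1 : kcl (H.map D.permHom) ≤ 3 ^ (m - 1) := by
      haveI : Group.IsSolvable H := Group.isSolvable_of_isSolvable_injective (f := H.subtype) H.subtype_injective
      exact kcl_solvable_perm m (Fin m) (H.map D.permHom) (Nat.card_fin m)
        (Group.isSolvable_of_surjective (f := D.permHom.subgroupMap H) (D.permHom.subgroupMap_surjective H))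
    have b2 : kcl ((H ⊓ K).map (QuotientGroup.mk' (Cfsg.fittingSubgroup R))) ≤ 3 ^ ((d - 1) * m) := by
      set H' := (H ⊓ K).subgroupOf K
      have e : (H ⊓ K).map (QuotientGroup.mk' (Cfsg.fittingSubgroup R)) =
          H'.map ((QuotientGroup.mk' (Cfsg.fittingSubgroup R)).comp K.subtype) := by
        rw [← Subgroup.map_map, Subgroup.map_subgroupOf_eq_of_le inf_le_right]
      rw [kcl_congr (MulEquiv.subgroupCongr e)]
      refine (kcl_map_le_of_ker H' _ (QuotientGroup.mk' M) fun x _ hx => (QuotientGroup.eq_one_iff _).2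
        (hKF ⟨x, hMF ((QuotientGroup.eq_one_iff x).1 hx), rfl⟩)).trans ?_
      rw [pow_mul]
      refine le_trans (kcl_le_prod Finset.univ
        (fun i => QuotientGroup.lift M (φ i) (iInf_le (fun i => (φ i).ker) i))
        (fun _ => 3 ^ (d - 1)) (fun i _ L => ?_) _ fun x _ hx => ?_) (le_of_eq ?_)
      · have e2 : L.map (QuotientGroup.lift M (φ i) (iInf_le (fun i => (φ i).ker) i)) =
            ((L.comap (QuotientGroup.mk' M)).map (k i)).map (QuotientGroup.mk' (Fi i)) := by
          conv_lhs => rw [← Subgroup.map_comap_eq_self_of_surjective (QuotientGroup.mk'_surjective M) L]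
          rw [Subgroup.map_map, Subgroup.map_map]
          rfl
        rw [kcl_congr (MulEquiv.subgroupCongr e2)]
        haveI : Group.IsSolvable (D.blockHom i).range := D.blockHom_solvable i
        have hci : (Nat.card (D.blockHom i).range).Coprime p := (hcop.coprime_dvd_left
          (Subgroup.card_subgroup_dvd_card _)).coprime_dvd_left (Subgroup.card_range_dvd (D.blockHom i))
        refine ih (D.W i) (D.blockHom i).range ?_ (fun w => Subtype.ext (hexp w)) inferInstance hci d hd1
          ((D.card_comp_eq hirr i a).trans hd) _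
        rw [(D.card_comp_eq hirr i a).trans hd, ← hn, hV]
        refine Nat.pow_lt_pow_right hp.one_lt ?_
        rw [← hdm]; exact lt_mul_of_one_lt_right (by omega) (by omega)
      · obtain ⟨y, rfl⟩ := QuotientGroup.mk'_surjective M x
        exact (QuotientGroup.eq_one_iff y).2 (Subgroup.mem_iInf.2 fun i => hx i (Finset.mem_univ i))
      · rw [Finset.prod_const, Finset.card_univ, Fintype.card_fin]
    refine (Nat.mul_le_mul b1 b2).trans ?_
    rw [← pow_add]
    refine Nat.pow_le_pow_right (by norm_num) ?_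
    rw [Nat.sub_mul, one_mul, hdm]
    have : m ≤ r := hdm ▸ Nat.le_mul_of_pos_left m hd1
    omega

/-- Subgroups of a soluble coprime linear group modulo the Fitting subgroup. -/
theorem kcl_quot_fitting_le {p : ℕ} (hp : p.Prime) {V : Type u} [AddCommGroup V] [Finite V] {r : ℕ}
    (R : Subgroup (AddMonoid.End V)ˣ) (hexp : ∀ v : V, p • v = 0) (hsolv : Group.IsSolvable R)
    (hcop : (Nat.card R).Coprime p) (hr : 1 ≤ r) (hV : Nat.card V = p ^ r) (H : Subgroup R) :
    kcl (H.map (QuotientGroup.mk' (Cfsg.fittingSubgroup R))) ≤ 3 ^ (r - 1) :=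
  kcl_fitting_main p hp (Nat.card V + 1) V R (Nat.lt_succ_self _) hexp hsolv hcop r hr hV H

end CfsgLib.RegOrbit
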