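import Cfsg.Agent.Lib.ClassCount.Bounds.Tools
import Cfsg.Agent.Lib.RegOrbit.FittingClasses.Decomp
import Cfsg.Agent.S4958

/-!
# Class numbers of semidirect products of an elementary abelian group with a linear group
-/

set_option autoImplicit false
set_option linter.all false

namespace CfsgLib.RegOrbit

universe u

open MulAction CfsgLib.ClassBounds

section Basic

variable {V : Type*} [AddCommGroup V]

/-- An additive automorphism as an automorphism of the multiplicative group. -/
noncomputable def mAut : (AddMonoid.End V)ˣ →* MulAut (Multiplicative V) where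
  toFun g :=
    { toFun := fun x => Multiplicative.ofAdd (g • Multiplicative.toAdd x)
      invFun := fun x => Multiplicative.ofAdd (g⁻¹ • Multiplicative.toAdd x)
      left_inv := fun x => Multiplicative.toAdd.injective (inv_smul_smul g (Multiplicative.toAdd x))
      right_inv := fun x => Multiplicative.toAdd.injective (smul_inv_smul g (Multiplicative.toAdd x))
      map_mul' := fun x y => Multiplicative.toAdd.injective
        (smul_add g (Multiplicative.toAdd x) (Multiplicative.toAdd y)) }
  map_one' := MulEquiv.ext fun x => Multiplicative.toAdd.injective (one_smul (AddMonoid.End V)ˣ (Multiplicative.toAdd x))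
  map_mul' g h := MulEquiv.ext fun x =>
    Multiplicative.toAdd.injective (mul_smul g h (Multiplicative.toAdd x))

theorem mAut_apply (g : (AddMonoid.End V)ˣ) (x : Multiplicative V) :
    mAut g x = Multiplicative.ofAdd (g • Multiplicative.toAdd x) := rfl

/-- The semidirect product of a representation. -/
abbrev SPh {H : Type*} [Group H] (ρ : H →* (AddMonoid.End V)ˣ) : Type _ :=
  SemidirectProduct (Multiplicative V) H (mAut.comp ρ)

instance finite_SPh [Finite V] {H : Type*} [Group H] [Finite H] (ρ : H →* (AddMonoid.End V)ˣ) :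
    Finite (SPh ρ) :=
  Finite.of_equiv _ SemidirectProduct.equivProd.symm

variable {W : Type*} [AddCommGroup W] {H K : Type*} [Group H] [Group K]

/-- An equivariant map of semidirect products. -/
noncomputable def spMap (ρ : H →* (AddMonoid.End V)ˣ) (σ : K →* (AddMonoid.End W)ˣ) (q : V →+ W)
    (f : H →* K) (hq : ∀ h v, q (ρ h • v) = σ (f h) • q v) : SPh ρ →* SPh σ where
  toFun x := ⟨Multiplicative.ofAdd (q (Multiplicative.toAdd x.left)), f x.right⟩
  map_one' := SemidirectProduct.ext (by simp) (by simp)
  map_mul' x y := SemidirectProduct.ext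
    (Multiplicative.toAdd.injective (by
      show q (Multiplicative.toAdd x.left + ρ x.right • Multiplicative.toAdd y.left) = _
      rw [map_add, hq]
      rfl))
    (map_mul f x.right y.right)

theorem spMap_injective (ρ : H →* (AddMonoid.End V)ˣ) (σ : K →* (AddMonoid.End W)ˣ) (q : V →+ W)
    (f : H →* K) (hq : ∀ h v, q (ρ h • v) = σ (f h) • q v) (h1 : Function.Injective q)
    (h2 : Function.Injective f) : Function.Injective (spMap ρ σ q f hq) := fun x y e =>
  SemidirectProduct.ext
    (Multiplicative.toAdd.injective (h1 (congrArg (fun z : SPh σ => Multiplicative.toAdd z.left) e)))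
    (h2 (congrArg (fun z : SPh σ => z.right) e))

theorem spMap_surjective (ρ : H →* (AddMonoid.End V)ˣ) (σ : K →* (AddMonoid.End W)ˣ) (q : V →+ W)
    (f : H →* K) (hq : ∀ h v, q (ρ h • v) = σ (f h) • q v) (h1 : Function.Surjective q)
    (h2 : Function.Surjective f) : Function.Surjective (spMap ρ σ q f hq) := fun z => by
  obtain ⟨v, hv⟩ := h1 (Multiplicative.toAdd z.left)
  obtain ⟨h, hh⟩ := h2 z.right
  exact ⟨⟨Multiplicative.ofAdd v, h⟩, SemidirectProduct.ext
    (Multiplicative.toAdd.injective hv) hh⟩

theorem kcl_SPh_congr (ρ : H →* (AddMonoid.End V)ˣ) (σ : K →* (AddMonoid.End W)ˣ) (q : V →+ W)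
    (f : H →* K) (hq : ∀ h v, q (ρ h • v) = σ (f h) • q v) (h1 : Function.Bijective q)
    (h2 : Function.Bijective f) : kcl (SPh ρ) = kcl (SPh σ) :=
  kcl_congr (MulEquiv.ofBijective (spMap ρ σ q f hq)
    ⟨spMap_injective ρ σ q f hq h1.1 h2.1, spMap_surjective ρ σ q f hq h1.2 h2.2⟩)

theorem kcl_SPh_range [Finite V] (ρ : H →* (AddMonoid.End V)ˣ) (hinj : Function.Injective ρ) :
    kcl (SPh ρ) = kcl (SPh ρ.range.subtype) :=
  kcl_SPh_congr ρ ρ.range.subtype (AddMonoidHom.id V) ρ.rangeRestrict (fun _ _ => rfl)
    Function.bijective_id ⟨fun a b e => hinj (congrArg Subtype.val e), ρ.rangeRestrict_surjective⟩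

/-- The representation on a product. -/
noncomputable def prodRep (ρ : H →* (AddMonoid.End V)ˣ) (σ : H →* (AddMonoid.End W)ˣ) :
    H →* (AddMonoid.End (V × W))ˣ :=
  MonoidHom.toHomUnits
    { toFun := fun h => (((ρ h : (AddMonoid.End V)ˣ) : AddMonoid.End V) : V →+ V).prodMap
        (((σ h : (AddMonoid.End W)ˣ) : AddMonoid.End W) : W →+ W)
      map_one' := by
        refine DFunLike.ext _ _ fun x => Prod.ext ?_ ?_
        · show ρ 1 • x.1 = x.1
          rw [map_one, one_smul]
        · show σ 1 • x.2 = x.2
          rw [map_one, one_smul]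
      map_mul' := fun g h => by
        refine DFunLike.ext _ _ fun x => Prod.ext ?_ ?_
        · show ρ (g * h) • x.1 = ρ g • ρ h • x.1
          rw [map_mul, mul_smul]
        · show σ (g * h) • x.2 = σ g • σ h • x.2
          rw [map_mul, mul_smul] }

theorem prodRep_smul (ρ : H →* (AddMonoid.End V)ˣ) (σ : H →* (AddMonoid.End W)ˣ) (h : H) (x : V × W) :
    prodRep ρ σ h • x = (ρ h • x.1, σ h • x.2) := rfl

/-- Splitting off a direct summand. -/
theorem kcl_prod_le [Finite V] [Finite W] [Finite H] (ρ : H →* (AddMonoid.End V)ˣ)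
    (σ : H →* (AddMonoid.End W)ˣ) :
    kcl (SPh (prodRep ρ σ)) ≤ kcl (SPh (ρ.comp σ.ker.subtype)) * kcl (SPh σ.range.subtype) := by
  haveI : Finite σ.range := Finite.of_surjective _ σ.rangeRestrict_surjective
  let π : SPh (prodRep ρ σ) →* SPh σ.range.subtype :=
    spMap _ _ (AddMonoidHom.snd V W) σ.rangeRestrict fun _ _ => rfl
  let ι : SPh (ρ.comp σ.ker.subtype) →* SPh (prodRep ρ σ) :=
    spMap _ _ (AddMonoidHom.inl V W) σ.ker.subtype fun h v => by
      refine Prod.ext rfl ?_
      show (0 : W) = σ (h : H) • (0 : W)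
      rw [smul_zero]
  have hι : Function.Injective ι :=
    spMap_injective _ _ _ _ _ (fun a b e => congrArg Prod.fst e) σ.ker.subtype_injective
  have hker : π.ker = ι.range := by
    ext x
    constructor
    · intro hx
      have h1 : (Multiplicative.toAdd x.left).2 = 0 :=
        congrArg (fun z : SPh σ.range.subtype => Multiplicative.toAdd z.left) (MonoidHom.mem_ker.1 hx)
      have h2 : σ x.right = 1 :=
        congrArg (fun z : SPh σ.range.subtype => (z.right : (AddMonoid.End W)ˣ)) (MonoidHom.mem_ker.1 hx)
      exact ⟨⟨Multiplicative.ofAdd (Multiplicative.toAdd x.left).1, ⟨x.right, h2⟩⟩,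
        SemidirectProduct.ext (Multiplicative.toAdd.injective (Prod.ext rfl h1.symm)) rfl⟩
    · rintro ⟨y, rfl⟩
      refine MonoidHom.mem_ker.2 (SemidirectProduct.ext rfl (Subtype.ext ?_))
      exact MonoidHom.mem_ker.1 y.right.2
  refine (kcl_le_ker_range π).trans (Nat.mul_le_mul (le_of_eq ?_) (le_of_eq ?_))
  · rw [kcl_congr (MulEquiv.subgroupCongr hker), kcl_range_of_injective ι hι]
  · have hsurj : Function.Surjective π := spMap_surjective (prodRep ρ σ) σ.range.subtype
      (AddMonoidHom.snd V W) σ.rangeRestrict (fun _ _ => rfl) (fun w => ⟨((0 : V), w), rfl⟩)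
      σ.rangeRestrict_surjective
    rw [kcl_congr (MulEquiv.subgroupCongr (MonoidHom.range_eq_top.2 hsurj))]
    exact kcl_congr Subgroup.topEquiv

/-- Abelian stabiliser: at most `|V|` classes. -/
theorem kcl_SPh_le_card [Finite V] [Finite H] {p : ℕ} (hp : p.Prime) (hexp : ∀ v : V, p • v = 0)
    (ρ : H →* (AddMonoid.End V)ˣ) (hinj : Function.Injective ρ) (hcop : (Nat.card H).Coprime p)
    (x : V) (hab : ∀ a b : H, ρ a • x = x → ρ b • x = x → a * b = b * a) :
    kcl (SPh ρ) ≤ Nat.card V := by
  haveI := Fact.mk hp
  let N : Subgroup (SPh ρ) := (SemidirectProduct.inl : Multiplicative V →* (SPh ρ)).range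
  let C : Subgroup (SPh ρ) := (SemidirectProduct.inr : H →* (SPh ρ)).range
  haveI : N.Normal := by
    show (SemidirectProduct.inl : Multiplicative V →* (SPh ρ)).range.Normal
    rw [SemidirectProduct.range_inl_eq_ker_rightHom]
    infer_instance
  have hcardN : Nat.card N = Nat.card V :=
    (Nat.card_congr (MonoidHom.ofInjective SemidirectProduct.inl_injective).toEquiv).symm
  have hcardC : Nat.card C = Nat.card H :=
    (Nat.card_congr (MonoidHom.ofInjective SemidirectProduct.inr_injective).toEquiv).symm
  have hcompl : Subgroup.IsComplement' C N := by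
    refine Subgroup.isComplement'_of_disjoint_and_mul_eq_univ ?_ ?_
    · rw [Subgroup.disjoint_def]
      rintro _ ⟨h, rfl⟩ ⟨v, hv⟩
      have h1 : (1 : H) = h := by simpa using congrArg SemidirectProduct.right hv
      rw [← h1, map_one]
    · refine Set.eq_univ_of_forall fun z => ?_
      refine ⟨SemidirectProduct.inr z.right, ⟨_, rfl⟩,
        SemidirectProduct.inr z.right⁻¹ * SemidirectProduct.inl z.left * SemidirectProduct.inr z.right,
        ?_, ?_⟩
      · refine ⟨(mAut.comp ρ) z.right⁻¹ z.left, ?_⟩
        rw [SemidirectProduct.inl_aut, inv_inv]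
      · show SemidirectProduct.inr z.right * _ = z
        rw [← mul_assoc, ← mul_assoc, ← map_mul, mul_inv_cancel, map_one, one_mul,
          SemidirectProduct.inl_left_mul_inr_right]
  have hexpN : ∀ v ∈ N, v ^ p = 1 := by
    rintro _ ⟨v, rfl⟩
    rw [← map_pow, show v ^ p = 1 from Multiplicative.toAdd.injective (by
      rw [toAdd_pow]; exact hexp _), map_one]
  have hidx : ¬ p ∣ N.index := by
    have h1 : N.index = Nat.card H := by
      have := hcompl.index_eq_card
      rw [← hcardC]
      exact this
    rw [h1]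
    exact fun h => hp.not_dvd_one (hcop ▸ Nat.dvd_gcd h (dvd_refl p))
  have hself : Subgroup.centralizer (N : Set (SPh ρ)) = N := by
    refine le_antisymm (fun z hz => ?_) ?_
    · have hr : z.right = 1 := hinj (by
        rw [map_one]
        refine Units.ext (DFunLike.ext _ _ fun v => ?_)
        have h0 : (SemidirectProduct.inl (Multiplicative.ofAdd v) : SPh ρ) * z =
            z * SemidirectProduct.inl (Multiplicative.ofAdd v) :=
          Subgroup.mem_centralizer_iff.1 hz _ ⟨_, rfl⟩
        have h1 : v + Multiplicative.toAdd z.left = Multiplicative.toAdd z.left + ρ z.right • v := by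
          have h2 := congrArg (fun w : SPh ρ => w.left) h0
          simp only [SemidirectProduct.mul_left, SemidirectProduct.left_inl, SemidirectProduct.right_inl,
            map_one, MulAut.one_apply] at h2
          exact congrArg Multiplicative.toAdd h2
        rw [add_comm] at h1
        exact (add_left_cancel h1).symm)
      exact ⟨z.left, SemidirectProduct.ext rfl hr.symm⟩
    · rintro _ ⟨v, rfl⟩
      rw [Subgroup.mem_centralizer_iff]
      rintro _ ⟨w, rfl⟩
      rw [← map_mul, ← map_mul, mul_comm]
  have h := Cfsg.Agent.S4958.result p N hexpN hidx hself C hcompl.symm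
    (SemidirectProduct.inl (Multiplicative.ofAdd x)) ⟨_, rfl⟩ ?_
  · exact h.trans hcardN.le
  rintro _ ⟨⟨a, rfl⟩, ha⟩ _ ⟨⟨b, rfl⟩, hb⟩
  have key : ∀ a : H, (SemidirectProduct.inr a : (SPh ρ)) ∈
      Subgroup.centralizer ({SemidirectProduct.inl (Multiplicative.ofAdd x)} : Set (SPh ρ)) → ρ a • x = x := by
    intro a ha
    have h0 : (SemidirectProduct.inr a : SPh ρ) * SemidirectProduct.inl (Multiplicative.ofAdd x) =
        SemidirectProduct.inl (Multiplicative.ofAdd x) * SemidirectProduct.inr a :=
      Subgroup.mem_centralizer_singleton_iff.1 ha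
    have h2 := congrArg (fun w : SPh ρ => w.left) h0
    simp only [SemidirectProduct.mul_left, SemidirectProduct.left_inl, SemidirectProduct.right_inl,
      SemidirectProduct.left_inr, SemidirectProduct.right_inr, map_one, one_mul, MulAut.one_apply,
      mul_one] at h2
    exact congrArg Multiplicative.toAdd h2
  rw [← map_mul, ← map_mul, hab a b (key a ha) (key b hb)]

end Basic

end CfsgLib.RegOrbit
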