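import Cfsg.Agent.Lib.RegOrbit.FittingClasses.Engine
import Cfsg.Agent.Lib.RegOrbit.FittingClasses.Semidirect
import Cfsg.Agent.Lib.RegOrbit.MainTwo
import Cfsg.Agent.Lib.ClassCount.Bounds.SolvablePerm

/-!
# `k(VR) ≤ 3 ^ (r - 1) |V|` for a soluble coprime linear group `R` on `V` of rank `r`
-/

set_option autoImplicit false
set_option linter.all false

namespace CfsgLib.RegOrbit

universe u

open MulAction CfsgLib.ClassBounds

section Pi

variable {I : Type*} {W : I → Type*} [∀ i, AddCommGroup (W i)] {H : Type*} [Group H]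

/-- The representation on a finite product. -/
noncomputable def piRep (ρ : ∀ i, H →* (AddMonoid.End (W i))ˣ) : H →* (AddMonoid.End (∀ i, W i))ˣ :=
  MonoidHom.toHomUnits
    { toFun := fun h => AddMonoidHom.mk' (fun x i => ρ i h • x i) fun x y => funext fun i => smul_add _ _ _
      map_one' := DFunLike.ext _ _ fun x => funext fun i => by
        show ρ i 1 • x i = x i
        rw [map_one, one_smul]
      map_mul' := fun g h => DFunLike.ext _ _ fun x => funext fun i => by
        show ρ i (g * h) • x i = ρ i g • ρ i h • x i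
        rw [map_mul, mul_smul] }

theorem piRep_smul (ρ : ∀ i, H →* (AddMonoid.End (W i))ˣ) (h : H) (x : ∀ i, W i) (i : I) :
    (piRep ρ h • x) i = ρ i h • x i := rfl

theorem eq_one_of_piRep [DecidableEq I] (ρ : ∀ i, H →* (AddMonoid.End (W i))ˣ) {h : H}
    (e : piRep ρ h = 1) (i : I) : ρ i h = 1 := by
  refine Units.ext (DFunLike.ext _ _ fun w => ?_)
  have h1 := congrFun (congrArg (fun g : (AddMonoid.End (∀ i, W i))ˣ => g • Pi.single i w) e) i
  simp only [piRep_smul, one_smul, Pi.single_eq_same] at h1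
  exact h1

end Pi

/-- The bound for the modules smaller than `n`. -/
def KVBelow (p n : ℕ) : Prop :=
  ∀ (V : Type u) [AddCommGroup V] [Finite V] (R : Subgroup (AddMonoid.End V)ˣ), Nat.card V < n →
    (∀ v : V, p • v = 0) → Group.IsSolvable R → (Nat.card R).Coprime p → ∀ r : ℕ, 1 ≤ r →
      Nat.card V = p ^ r → kcl (SPh R.subtype) ≤ 3 ^ (r - 1) * p ^ r

theorem KVBelow.hom {p n : ℕ} (hb : KVBelow.{u} p n) {V : Type u} [AddCommGroup V] [Finite V] {H : Type u}
    [Group H] [Finite H] (ρ : H →* (AddMonoid.End V)ˣ) (hinj : Function.Injective ρ)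
    (hn : Nat.card V < n) (hexp : ∀ v : V, p • v = 0) [Group.IsSolvable H]
    (hcop : (Nat.card H).Coprime p) {r : ℕ} (hr : 1 ≤ r) (hV : Nat.card V = p ^ r) :
    kcl (SPh ρ) ≤ 3 ^ (r - 1) * p ^ r := by
  rw [kcl_SPh_range ρ hinj]
  exact hb V ρ.range hn hexp
    (Group.isSolvable_of_surjective (f := ρ.rangeRestrict) ρ.rangeRestrict_surjective)
    (by rwa [← Nat.card_congr (MonoidHom.ofInjective hinj).toEquiv]) r hr hV

theorem kcl_blocks {p n : ℕ} (hb : KVBelow.{u} p n) : ∀ (m : ℕ) (W : Fin m → Type u)
    [∀ i, AddCommGroup (W i)] [∀ i, Finite (W i)] (H : Type u) [Group H] [Finite H]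
    [Group.IsSolvable H] (ρ : ∀ i, H →* (AddMonoid.End (W i))ˣ) (r : Fin m → ℕ),
    (∀ i, ∀ w : W i, p • w = 0) → (∀ i, Nat.card (W i) < n) → (∀ i, 1 ≤ r i) →
    (∀ i, Nat.card (W i) = p ^ r i) → (Nat.card H).Coprime p →
    (∀ h, (∀ i, ρ i h = 1) → h = 1) →
    kcl (SPh (piRep ρ)) ≤ ∏ i, 3 ^ (r i - 1) * p ^ r i := by
  intro m
  induction m with
  | zero =>
    intro W _ _ H _ _ _ ρ r _ _ _ _ _ hfaith
    haveI : Subsingleton H := ⟨fun a b => (hfaith a (fun i => i.elim0)).trans (hfaith b (fun i => i.elim0)).symm⟩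
    haveI : Subsingleton (SPh (piRep ρ)) := SemidirectProduct.equivProd.injective.subsingleton
    rw [Finset.univ_eq_empty, Finset.prod_empty]
    exact (kcl_le_card _).trans Nat.card_unique.le
  | succ m ih =>
    intro W _ _ H _ _ _ ρ r hexp hlt hr hcard hcop hfaith
    classical
    let σ := piRep (fun i : Fin m => ρ i.succ)
    let q : (∀ i, W i) →+ W 0 × (∀ i : Fin m, W i.succ) :=
      AddMonoidHom.mk' (fun x => (x 0, fun i => x i.succ)) fun _ _ => rfl
    have hq : Function.Bijective q := by
      refine ⟨fun x y e => funext fun i => ?_, fun z => ⟨Fin.cases z.1 z.2, rfl⟩⟩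
      induction i using Fin.cases with
      | zero => exact congrArg Prod.fst e
      | succ i => exact congrFun (congrArg Prod.snd e) i
    rw [kcl_SPh_congr (piRep ρ) (prodRep (ρ 0) σ) q (MonoidHom.id H) (fun h x => rfl) hq
      Function.bijective_id, Fin.prod_univ_succ]
    refine (kcl_prod_le (ρ 0) σ).trans (Nat.mul_le_mul ?_ ?_)
    · haveI : Group.IsSolvable σ.ker :=
        Group.isSolvable_of_isSolvable_injective (f := σ.ker.subtype) σ.ker.subtype_injective
      refine hb.hom _ ((injective_iff_map_eq_one _).2 fun x hx => Subtype.ext (hfaith x fun i => ?_))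
        (hlt 0) (hexp 0) (hcop.coprime_dvd_left (Subgroup.card_subgroup_dvd_card _)) (hr 0) (hcard 0)
      induction i using Fin.cases with
      | zero => exact hx
      | succ i => exact eq_one_of_piRep (fun i : Fin m => ρ i.succ) x.2 i
    · let ρ' : ∀ i : Fin m, H ⧸ σ.ker →* (AddMonoid.End (W i.succ))ˣ := fun i =>
        QuotientGroup.lift σ.ker (ρ i.succ) fun x hx =>
          MonoidHom.mem_ker.2 (eq_one_of_piRep (fun i : Fin m => ρ i.succ) hx i)
      haveI : Group.IsSolvable (H ⧸ σ.ker) :=
        Group.isSolvable_of_surjective (f := QuotientGroup.mk' σ.ker) (QuotientGroup.mk'_surjective _)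
      refine le_trans (le_of_eq ?_) (ih (fun i => W i.succ) (H ⧸ σ.ker) ρ' (fun i => r i.succ)
        (fun i => hexp _) (fun i => hlt _) (fun i => hr _) (fun i => hcard _)
        (hcop.coprime_dvd_left (Subgroup.card_quotient_dvd_card _)) ?_)
      · refine (kcl_SPh_congr (piRep ρ') σ.range.subtype (AddMonoidHom.id _)
          (QuotientGroup.quotientKerEquivRange σ).toMonoidHom ?_ Function.bijective_id
          (QuotientGroup.quotientKerEquivRange σ).bijective).symm
        intro h x
        obtain ⟨h, rfl⟩ := QuotientGroup.mk_surjective h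
        rfl
      · intro h hh
        obtain ⟨h, rfl⟩ := QuotientGroup.mk_surjective h
        refine (QuotientGroup.eq_one_iff _).2 (MonoidHom.mem_ker.2 (Units.ext (DFunLike.ext _ _ fun x => ?_)))
        refine funext fun i => ?_
        show ρ i.succ h • x i = x i
        rw [show ρ i.succ h = 1 from hh i, one_smul]

theorem kcl_SPh_main (p : ℕ) (hp : p.Prime) : ∀ n, KVBelow.{u} p n := by
  haveI := Fact.mk hp
  intro n
  induction n with
  | zero => intro V _ _ R h; exact absurd h (Nat.not_lt_zero _)
  | succ n ih =>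
  intro V _ _ R hn hexp hsolv hcop r hr hV
  rcases Nat.lt_or_ge (Nat.card V) n with hlt | hge
  · exact ih V R hlt hexp hsolv hcop r hr hV
  replace hn : Nat.card V = n := by omega
  haveI := hsolv
  haveI := finiteGroup (G := R)
  haveI : Nontrivial V := Finite.one_lt_card_iff_nontrivial.1 (hV ▸ Nat.one_lt_pow (by omega) hp.one_lt)
  rcases prim_or_split hp hexp R (compRed_of_coprime hexp hcop) with hprim |
      ⟨U, W, hU, hW, hinf, hsup, h1, h2⟩ | ⟨hirr, m, hm, ⟨D⟩⟩
  · obtain ⟨S⟩ := exists_setup hprim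
    haveI := S.fNormal
    let π : SPh R.subtype →* R ⧸ S.F := (QuotientGroup.mk' S.F).comp SemidirectProduct.rightHom
    let ι : SPh (R.subtype.comp S.F.subtype) →* SPh R.subtype :=
      spMap _ _ (AddMonoidHom.id V) S.F.subtype fun _ _ => rfl
    have hι : Function.Injective ι :=
      spMap_injective _ _ _ _ _ Function.injective_id S.F.subtype_injective
    have hker : π.ker = ι.range := by
      ext x
      constructor
      · intro hx
        exact ⟨⟨x.left, ⟨x.right, (QuotientGroup.eq_one_iff _).1 hx⟩⟩, rfl⟩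
      · rintro ⟨y, rfl⟩
        exact (QuotientGroup.eq_one_iff _).2 y.right.2
    refine (kcl_le_ker_range π).trans (le_trans (Nat.mul_le_mul ?_ ?_) (le_of_eq (mul_comm _ _)))
    · rw [kcl_congr (MulEquiv.subgroupCongr hker), kcl_range_of_injective ι hι, ← hV]
      obtain ⟨x, hx⟩ := exists_ne (0 : V)
      refine kcl_SPh_le_card hp hexp _ (fun a b e => Subtype.ext (Subtype.ext e))
        (hcop.coprime_dvd_left (Subgroup.card_subgroup_dvd_card _)) x fun a b ha hb => ?_
      refine Subtype.ext ?_
      have hc : Setup.cm (a : R) (b : R) • x = x := by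
        have ha' : (a : R) • x = x := ha
        have hb' : (b : R) • x = x := hb
        rw [Setup.cm, mul_smul, mul_smul, mul_smul, inv_smul_eq_iff.2 hb'.symm,
          inv_smul_eq_iff.2 ha'.symm, hb', ha']
      exact Setup.cm_eq_one_iff.1 (S.eq_one_of_fix (S.cm_mem a.2 b.2) hx hc)
    · have hs : Function.Surjective π := (QuotientGroup.mk'_surjective S.F).comp fun g => ⟨⟨1, g⟩, rfl⟩
      rw [kcl_congr (MulEquiv.subgroupCongr (MonoidHom.range_eq_top.2 hs)),
        ← kcl_congr (MulEquiv.subgroupCongr (Subgroup.map_top_of_surjective _ (QuotientGroup.mk'_surjective S.F)))]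
      exact S.kcl_map_mk_le hV ⊤
  · obtain ⟨i, j, hi, hj, hi1, hj1, hij⟩ :=
      exists_pow_split hp h1 h2 ((card_mul_of_compl hinf hsup).trans hV)
    set f := subHom R U hU
    set g := subHom R W hW
    let q : U × W →+ V := AddMonoidHom.mk' (fun x => (x.1 : V) + x.2) fun x y => by
      simp only [Prod.fst_add, Prod.snd_add, AddSubgroup.coe_add]; abel
    have hq : Function.Bijective q := by
      refine (Nat.bijective_iff_surjective_and_card q).2 ⟨fun v => ?_, ?_⟩
      · obtain ⟨u, hu, w, hw, rfl⟩ := AddSubgroup.mem_sup.1 (hsup ▸ AddSubgroup.mem_top v : v ∈ U ⊔ W)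
        exact ⟨(⟨u, hu⟩, ⟨w, hw⟩), rfl⟩
      · rw [Nat.card_prod, card_mul_of_compl hinf hsup]
    rw [← kcl_SPh_congr (prodRep f g) R.subtype q (MonoidHom.id R) (fun h x => by
      show ((f h • x.1 : U) : V) + ((g h • x.2 : W) : V) = h • ((x.1 : V) + x.2)
      rw [subHom_smul, subHom_smul, smul_add]) hq Function.bijective_id]
    haveI : Group.IsSolvable g.ker :=
      Group.isSolvable_of_isSolvable_injective (f := g.ker.subtype) g.ker.subtype_injective
    have hlt1 : p ^ i < n := by
      rw [← hn, hV]; exact Nat.pow_lt_pow_right hp.one_lt (by omega)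
    have hlt2 : p ^ j < n := by
      rw [← hn, hV]; exact Nat.pow_lt_pow_right hp.one_lt (by omega)
    haveI : Finite g.range := Finite.of_surjective _ g.rangeRestrict_surjective
    have b1 := ih.hom (f.comp g.ker.subtype) ((injective_iff_map_eq_one _).2 fun x hx =>
      Subtype.ext (eq_one_of_subHom hsup hU hW hx x.2)) (hi ▸ hlt1) (fun w => Subtype.ext (hexp w))
      (hcop.coprime_dvd_left (Subgroup.card_subgroup_dvd_card _)) hi1 hi
    have b2 := ih W g.range (hj ▸ hlt2) (fun w => Subtype.ext (hexp w)) (solvable_subHom W hW)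
      (hcop.coprime_dvd_left (Subgroup.card_range_dvd g)) j hj1 hj
    refine (kcl_prod_le f g).trans ((Nat.mul_le_mul b1 b2).trans ?_)
    rw [mul_mul_mul_comm, ← pow_add, ← pow_add, hij]
    exact Nat.mul_le_mul_right _ (Nat.pow_le_pow_right (by norm_num) (by omega))
  · let a : Fin m := ⟨0, by omega⟩
    have hVa := D.card_eq_pow hirr a
    rw [hV, Fintype.card_fin] at hVa
    obtain ⟨d, hd, hd1, hdm⟩ := exists_pow_root hp (D.one_lt_card_comp a) (by omega) hVa
    let π : SPh R.subtype →* Equiv.Perm (Fin m) := D.permHom.comp SemidirectProduct.rightHom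
    let ι : SPh (R.subtype.comp D.permHom.ker.subtype) →* SPh R.subtype :=
      spMap _ _ (AddMonoidHom.id V) D.permHom.ker.subtype fun _ _ => rfl
    have hι : Function.Injective ι :=
      spMap_injective _ _ _ _ _ Function.injective_id D.permHom.ker.subtype_injective
    have hker : π.ker = ι.range := by
      ext x
      constructor
      · intro hx
        exact ⟨⟨x.left, ⟨x.right, hx⟩⟩, rfl⟩
      · rintro ⟨y, rfl⟩
        exact y.right.2
    suffices hboth : kcl π.ker ≤ (3 ^ (d - 1) * p ^ d) ^ m ∧ kcl π.range ≤ 3 ^ (m - 1) by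
      refine (kcl_le_ker_range π).trans ((Nat.mul_le_mul hboth.1 hboth.2).trans ?_)
      rw [mul_pow, ← pow_mul, ← pow_mul, hdm, mul_right_comm, ← pow_add]
      refine Nat.mul_le_mul_right _ (Nat.pow_le_pow_right (by norm_num) ?_)
      rw [Nat.sub_mul, one_mul, hdm]
      have : m ≤ r := hdm ▸ Nat.le_mul_of_pos_left m hd1
      omega
    refine ⟨?_, ?_⟩
    · rw [kcl_congr (MulEquiv.subgroupCongr hker), kcl_range_of_injective ι hι]
      let q : (∀ i, D.W i) →+ V :=
        AddMonoidHom.mk' (fun x => ∑ i, (x i : V)) fun x y => by simp [Finset.sum_add_distrib]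
      haveI : Group.IsSolvable D.permHom.ker :=
        Group.isSolvable_of_isSolvable_injective (f := D.permHom.ker.subtype) D.permHom.ker.subtype_injective
      rw [← kcl_SPh_congr (piRep fun i => D.kerHom i) (R.subtype.comp D.permHom.ker.subtype) q
        (MonoidHom.id _) (fun h x => by
          show ∑ i, ((D.kerHom i h • x i : D.W i) : V) = (h : R) • ∑ i, (x i : V)
          rw [Finset.smul_sum]
          rfl) D.decomp Function.bijective_id]
      refine (kcl_blocks ih m (fun i => D.W i) D.permHom.ker (fun i => D.kerHom i) (fun _ => d)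
        (fun i w => Subtype.ext (hexp w)) (fun i => ?_) (fun _ => hd1)
        (fun i => (D.card_comp_eq hirr i a).trans hd)
        (hcop.coprime_dvd_left (Subgroup.card_subgroup_dvd_card _))
        (fun h hh => Subtype.ext (Subtype.ext (Units.ext (DFunLike.ext _ _ fun v =>
          D.smul_eq_of_kerHom h hh v))))).trans (le_of_eq ?_)
      · rw [(D.card_comp_eq hirr i a).trans hd, ← hn, hV]
        refine Nat.pow_lt_pow_right hp.one_lt ?_
        rw [← hdm]; exact lt_mul_of_one_lt_right (by omega) (by omega)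
      · rw [Finset.prod_const, Finset.card_univ, Fintype.card_fin]
    · haveI : Group.IsSolvable π.range := by
        have e : π.range = D.permHom.range := by
          rw [MonoidHom.range_comp, MonoidHom.range_eq_top.2 (fun g => ⟨⟨1, g⟩, rfl⟩ :
            Function.Surjective (SemidirectProduct.rightHom : SPh R.subtype →* R)), ← MonoidHom.range_eq_map]
        rw [e]
        exact Group.isSolvable_of_surjective (f := D.permHom.rangeRestrict) D.permHom.rangeRestrict_surjective
      exact kcl_solvable_perm m (Fin m) π.range (Nat.card_fin m) inferInstance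

/-- The class number bound for a coprime soluble linear group. -/
theorem kcl_SPh_le {p : ℕ} (hp : p.Prime) {V : Type u} [AddCommGroup V] [Finite V] {H : Type u}
    [Group H] [Finite H] [Group.IsSolvable H] (ρ : H →* (AddMonoid.End V)ˣ) (hinj : Function.Injective ρ)
    (hexp : ∀ v : V, p • v = 0) (hcop : (Nat.card H).Coprime p) {r : ℕ} (hr : 1 ≤ r)
    (hV : Nat.card V = p ^ r) : kcl (SPh ρ) ≤ 3 ^ (r - 1) * p ^ r :=
  (kcl_SPh_main p hp (Nat.card V + 1)).hom ρ hinj (Nat.lt_succ_self _) hexp hcop hr hV

end CfsgLib.RegOrbit
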