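import Mathlib

/-!
# A finite complex linear group is linear of the same degree over a prime field of coprime order
-/

set_option autoImplicit false
set_option linter.all false

namespace CfsgLib.RegOrbit

open Polynomial

theorem exists_prime_root (m : ℤ[X]) (hm : 0 < m.natDegree) (N : ℕ) (hN : 0 < N) :
    ∃ q : ℕ, q.Prime ∧ ¬ q ∣ N ∧ ∃ a : ZMod q, (m.map (Int.castRingHom (ZMod q))).eval a = 0 := by
  by_cases hc : m.eval 0 = 0
  · obtain ⟨q, hq, hqp⟩ := Nat.exists_infinite_primes (N + 1)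
    refine ⟨q, hqp, fun h => absurd (Nat.le_of_dvd hN h) (by omega), 0, ?_⟩
    rw [show (0 : ZMod q) = (Int.castRingHom (ZMod q)) 0 from (map_zero _).symm, eval_map_apply, hc, map_zero]
  set c := m.eval 0 with hcdef
  set h := m.comp (C (c * N) * X) with hh
  have hdeg : 0 < h.natDegree := by
    rw [hh, natDegree_comp, natDegree_C_mul_X _ (mul_ne_zero hc (by exact_mod_cast hN.ne')), mul_one]
    exact hm
  have hfin : {t : ℤ | h.eval t = c ∨ h.eval t = -c}.Finite := by
    have key : ∀ d : ℤ, {t : ℤ | h.eval t = d}.Finite := fun d => by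
      have hne : h - C d ≠ 0 := fun e => by
        rw [sub_eq_zero] at e
        rw [e, natDegree_C] at hdeg
        exact lt_irrefl _ hdeg
      refine (finite_setOf_isRoot hne).subset fun t ht => ?_
      simp only [Set.mem_setOf_eq] at ht ⊢
      rw [IsRoot.def, eval_sub, eval_C, ht, sub_self]
    exact (key c).union (key (-c))
  obtain ⟨t, ht⟩ := hfin.exists_notMem
  simp only [Set.mem_setOf_eq, not_or, hh, eval_comp, eval_mul, eval_C, eval_X] at ht
  obtain ⟨e, he⟩ : c * N * t ∣ m.eval (c * N * t) - c := by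
    have := sub_dvd_eval_sub (c * N * t) 0 m
    rwa [sub_zero, ← hcdef] at this
  set u : ℤ := 1 + N * t * e with hu
  have hval : m.eval (c * N * t) = c * u := by
    rw [hu]; linear_combination he
  have hu1 : u.natAbs ≠ 1 := fun h1 => by
    rcases Int.natAbs_eq_iff.1 h1 with h2 | h2
    · exact ht.1 (by rw [hval, h2]; simp)
    · exact ht.2 (by rw [hval, h2]; simp)
  obtain ⟨q, hq, hqu⟩ := Nat.exists_prime_and_dvd hu1
  haveI := Fact.mk hq
  have hqu' : (q : ℤ) ∣ u := Int.natCast_dvd.2 hqu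
  refine ⟨q, hq, fun hqN => ?_, ((c * N * t : ℤ) : ZMod q), ?_⟩
  · have h1 : (q : ℤ) ∣ N * t * e := dvd_mul_of_dvd_left (dvd_mul_of_dvd_left (by exact_mod_cast hqN) t) e
    have h2 : (q : ℤ) ∣ 1 := by
      have := dvd_sub hqu' h1
      rwa [hu, add_sub_cancel_right] at this
    exact hq.not_dvd_one (by exact_mod_cast h2)
  · rw [show ((c * N * t : ℤ) : ZMod q) = (Int.castRingHom (ZMod q)) (c * N * t) from rfl, eval_map_apply,
      hval, map_mul, show (Int.castRingHom (ZMod q)) u = 0 from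
      (ZMod.intCast_zmod_eq_zero_iff_dvd u q).2 hqu', mul_zero]

/-- Finitely many elements of a number field lie in a ring with a map onto a prime field. -/
theorem exists_zmod_hom {L : Type*} [Field L] [CharZero L] [FiniteDimensional ℚ L]
    (T : Finset L) (n : ℕ) (hn : 0 < n) :
    ∃ (q : ℕ) (B : Subring L), q.Prime ∧ ¬ q ∣ n ∧ (↑T : Set L) ⊆ B ∧ Nonempty (B →+* ZMod q) := by
  classical
  obtain ⟨α₀, hα₀⟩ := Field.exists_primitive_element ℚ L
  obtain ⟨y, hy, hint⟩ := ((IsFractionRing.isAlgebraic_iff ℤ ℚ L).2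
    (Algebra.IsAlgebraic.isAlgebraic α₀)).exists_integral_multiple
  set α := y • α₀ with hα
  set A := Algebra.adjoin ℤ ({α} : Set L) with hA
  have hαA : α ∈ A := Algebra.subset_adjoin rfl
  -- denominators
  have hden : ∀ x : L, ∃ d : ℤ, d ≠ 0 ∧ (d : L) * x ∈ A := by
    intro x
    have hx : x ∈ Algebra.adjoin ℚ ({α₀} : Set L) := by
      rw [← IntermediateField.adjoin_simple_toSubalgebra_of_isAlgebraic
        (Algebra.IsAlgebraic.isAlgebraic α₀), hα₀]
      trivial
    induction hx using Algebra.adjoin_induction with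
    | mem x hx =>
      obtain rfl : x = α₀ := hx
      refine ⟨y, hy, ?_⟩
      rwa [← zsmul_eq_mul]
    | algebraMap r =>
      refine ⟨r.den, by exact_mod_cast r.den_nz, ?_⟩
      have h1 : (((r.den : ℤ) : L)) * algebraMap ℚ L r = ((r.num : ℤ) : L) := by
        rw [eq_ratCast, Rat.cast_def]
        have : ((r.den : L)) ≠ 0 := by exact_mod_cast r.den_nz
        push_cast
        field_simp
      rw [h1]
      exact intCast_mem A r.num
    | add a b _ _ ha hb =>
      obtain ⟨d, hd, ha⟩ := ha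
      obtain ⟨e, he, hb⟩ := hb
      refine ⟨d * e, mul_ne_zero hd he, ?_⟩
      have : ((d * e : ℤ) : L) * (a + b) = (e : L) * ((d : L) * a) + (d : L) * ((e : L) * b) := by
        push_cast; ring
      rw [this]
      exact add_mem (mul_mem (intCast_mem A e) ha) (mul_mem (intCast_mem A d) hb)
    | mul a b _ _ ha hb =>
      obtain ⟨d, hd, ha⟩ := ha
      obtain ⟨e, he, hb⟩ := hb
      refine ⟨d * e, mul_ne_zero hd he, ?_⟩
      have : ((d * e : ℤ) : L) * (a * b) = ((d : L) * a) * ((e : L) * b) := by push_cast; ring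
      rw [this]
      exact mul_mem ha hb
  choose d hd0 hdA using hden
  set N : ℕ := n * ∏ x ∈ T, (d x).natAbs with hN
  have hN0 : 0 < N := Nat.mul_pos hn (Finset.prod_pos fun x _ => Int.natAbs_pos.2 (hd0 x))
  have hm : 0 < (minpoly ℤ α).natDegree := minpoly.natDegree_pos hint
  obtain ⟨q, hq, hqN, a, ha⟩ := exists_prime_root (minpoly ℤ α) hm N hN0
  haveI := Fact.mk hq
  let ψ₀ : A →+* ZMod q := (AdjoinRoot.lift (Int.castRingHom (ZMod q)) a
    (by rw [eval₂_eq_eval_map]; exact ha)).comp (minpoly.equivAdjoin hint).symm.toRingEquiv.toRingHom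
  have hNq : (N : ZMod q) ≠ 0 := fun h => hqN ((ZMod.natCast_eq_zero_iff N q).1 h)
  let B : Subring L :=
    { carrier := {x | ∃ k : ℕ, (N : L) ^ k * x ∈ A}
      one_mem' := ⟨0, by simp [one_mem A]⟩
      zero_mem' := ⟨0, by simp [zero_mem A]⟩
      mul_mem' := fun {x z} ⟨k, hk⟩ ⟨l, hl⟩ => ⟨k + l, by
        rw [show (N : L) ^ (k + l) * (x * z) = ((N : L) ^ k * x) * ((N : L) ^ l * z) by ring]
        exact mul_mem hk hl⟩
      add_mem' := fun {x z} ⟨k, hk⟩ ⟨l, hl⟩ => ⟨k + l, by
        rw [show (N : L) ^ (k + l) * (x + z) = (N : L) ^ l * ((N : L) ^ k * x) + (N : L) ^ k * ((N : L) ^ l * z) by ring]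
        exact add_mem (mul_mem (pow_mem (natCast_mem A N) l) hk) (mul_mem (pow_mem (natCast_mem A N) k) hl)⟩
      neg_mem' := fun {x} ⟨k, hk⟩ => ⟨k, by rw [mul_neg]; exact neg_mem hk⟩ }
  refine ⟨q, B, hq, fun h => hqN (dvd_mul_of_dvd_left h _), fun x hx => ?_, ?_⟩
  · refine ⟨1, ?_⟩
    obtain ⟨c, hc⟩ : ∃ c : ℤ, (N : ℤ) = c * d x := by
      have h1 : (d x).natAbs ∣ N := (Finset.dvd_prod_of_mem (fun z => (d z).natAbs) hx).trans (dvd_mul_left _ _)
      have h2 : d x ∣ (N : ℤ) := Int.dvd_natCast.2 h1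
      obtain ⟨c, hc⟩ := h2
      exact ⟨c, by rw [hc, mul_comm]⟩
    have h3 : (N : L) = (c : L) * (d x : L) := by exact_mod_cast hc
    rw [pow_one, h3, mul_assoc]
    exact mul_mem (intCast_mem A c) (hdA x)
  · let ψ : B → ZMod q := fun x => ψ₀ ⟨_, x.2.choose_spec⟩ * ((N : ZMod q) ^ x.2.choose)⁻¹
    have key : ∀ (x : B) (k : ℕ) (h : (N : L) ^ k * (x : L) ∈ A),
        ψ x * (N : ZMod q) ^ k = ψ₀ ⟨_, h⟩ := by
      intro x k h
      set k' := x.2.choose with hk'
      have h' : (N : L) ^ k' * (x : L) ∈ A := x.2.choose_spec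
      have e : ((N : A) ^ k) * ⟨_, h'⟩ = ((N : A) ^ k') * ⟨_, h⟩ := Subtype.ext (by
        push_cast; ring)
      have e2 := congrArg ψ₀ e
      simp only [map_mul, map_pow, map_natCast] at e2
      show ψ₀ ⟨_, h'⟩ * ((N : ZMod q) ^ k')⁻¹ * (N : ZMod q) ^ k = _
      rw [mul_comm, ← mul_assoc, e2, mul_comm ((N : ZMod q) ^ k'), mul_assoc,
        mul_inv_cancel₀ (pow_ne_zero _ hNq), mul_one]
    refine ⟨{ toFun := ψ, map_one' := ?_, map_zero' := ?_, map_mul' := fun x z => ?_, map_add' := fun x z => ?_ }⟩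
    · have h : (N : L) ^ 0 * ((1 : B) : L) ∈ A := by simp [one_mem A]
      have := key 1 0 h
      rw [pow_zero, mul_one] at this
      rw [this, show (⟨_, h⟩ : A) = 1 from Subtype.ext (by simp), map_one]
    · obtain ⟨k, hk⟩ := x.2
      obtain ⟨l, hl⟩ := z.2
      have h : (N : L) ^ (k + l) * ((x * z : B) : L) ∈ A := by
        rw [show (N : L) ^ (k + l) * ((x * z : B) : L) = ((N : L) ^ k * x) * ((N : L) ^ l * z) by push_cast; ring]
        exact mul_mem hk hl
      refine mul_right_cancel₀ (pow_ne_zero (k + l) hNq) ?_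
      rw [key _ _ h, show (⟨_, h⟩ : A) = ⟨_, hk⟩ * ⟨_, hl⟩ from Subtype.ext (by push_cast; ring), map_mul,
        ← key x k hk, ← key z l hl]
      ring
    · have h : (N : L) ^ 0 * ((0 : B) : L) ∈ A := by simp [zero_mem A]
      have := key 0 0 h
      rw [pow_zero, mul_one] at this
      rw [this, show (⟨_, h⟩ : A) = 0 from Subtype.ext (by simp), map_zero]
    · obtain ⟨k, hk⟩ := x.2
      obtain ⟨l, hl⟩ := z.2
      have h : (N : L) ^ (k + l) * ((x + z : B) : L) ∈ A := by
        rw [show (N : L) ^ (k + l) * ((x + z : B) : L) =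
          (N : L) ^ l * ((N : L) ^ k * x) + (N : L) ^ k * ((N : L) ^ l * z) by push_cast; ring]
        exact add_mem (mul_mem (pow_mem (natCast_mem A N) l) hk) (mul_mem (pow_mem (natCast_mem A N) k) hl)
      refine mul_right_cancel₀ (pow_ne_zero (k + l) hNq) ?_
      rw [key _ _ h, show (⟨_, h⟩ : A) = (N : A) ^ l * ⟨_, hk⟩ + (N : A) ^ k * ⟨_, hl⟩ from
        Subtype.ext (by push_cast; ring), map_add, map_mul, map_mul, map_pow, map_pow, map_natCast,
        ← key x k hk, ← key z l hl]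
      ring

/-- Reduction of a finite complex linear group modulo a prime not dividing its order. -/
theorem exists_mod_prime {r : ℕ} (G : Subgroup (GL (Fin r) ℂ)) [Finite G] :
    ∃ q : ℕ, q.Prime ∧ ¬ q ∣ Nat.card G ∧
      ∃ ρ : G →* (AddMonoid.End (Fin r → ZMod q))ˣ, Function.Injective ρ := by
  classical
  haveI := Fintype.ofFinite G
  let E : G × Fin r × Fin r → ℂ := fun x => ((x.1 : GL (Fin r) ℂ) : Matrix (Fin r) (Fin r) ℂ) x.2.1 x.2.2
  let D : G × Fin r × Fin r → ℂ := fun x => E x - (if x.2.1 = x.2.2 then 1 else 0)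
  let T0 : Finset ℂ := Finset.univ.image E ∪ Finset.univ.image (fun x => (D x)⁻¹)
  let A := Algebra.adjoin ℚ (↑T0 : Set ℂ)
  haveI : Algebra.FiniteType ℚ A := ⟨(Subalgebra.fg_top A).2 (Subalgebra.fg_adjoin_finset T0)⟩
  obtain ⟨I, hI⟩ := Ideal.exists_maximal A
  letI : Field (A ⧸ I) := Ideal.Quotient.field I
  have hfin : Module.Finite ℚ (A ⧸ I) := finite_of_finite_type_of_isJacobsonRing ℚ (A ⧸ I)
  haveI : CharZero (A ⧸ I) := charZero_of_injective_algebraMap (algebraMap ℚ (A ⧸ I)).injective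
  haveI : @FiniteDimensional ℚ (A ⧸ I) _ _ (DivisionRing.toRatAlgebra).toModule := by
    convert hfin using 1
    exact congrArg (fun a : Algebra ℚ (A ⧸ I) => @Algebra.toModule _ _ _ _ a)
      (Subsingleton.elim DivisionRing.toRatAlgebra (Ideal.Quotient.algebra ℚ))
  have hE : ∀ x, E x ∈ A := fun x =>
    Algebra.subset_adjoin (Finset.mem_union_left _ (Finset.mem_image_of_mem _ (Finset.mem_univ x)))
  have hD : ∀ x, (D x)⁻¹ ∈ A := fun x =>
    Algebra.subset_adjoin (Finset.mem_union_right _ (Finset.mem_image.2 ⟨x, Finset.mem_univ x, rfl⟩))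
  let e : G × Fin r × Fin r → A := fun x => ⟨E x, hE x⟩
  let f : G × Fin r × Fin r → A := fun x => ⟨(D x)⁻¹, hD x⟩
  obtain ⟨q, B, hq, hqG, hT, ⟨ψ⟩⟩ := exists_zmod_hom
    ((Finset.univ.image fun x => Ideal.Quotient.mk I (e x)) ∪
      Finset.univ.image fun x => Ideal.Quotient.mk I (f x)) (Nat.card G) Nat.card_pos
  haveI := Fact.mk hq
  let A' : Subring A := B.comap (Ideal.Quotient.mk I)
  let χ : A' →+* ZMod q := ψ.comp ((Ideal.Quotient.mk I).restrict A' B fun x hx => hx)
  have heA : ∀ x, e x ∈ A' := fun x =>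
    hT (Finset.mem_coe.2 (Finset.mem_union_left _ (Finset.mem_image_of_mem _ (Finset.mem_univ x))))
  have hfA : ∀ x, f x ∈ A' := fun x =>
    hT (Finset.mem_coe.2 (Finset.mem_union_right _ (Finset.mem_image.2 ⟨x, Finset.mem_univ x, rfl⟩)))
  let lift : G → Matrix (Fin r) (Fin r) A' := fun g => Matrix.of fun i j => ⟨e (g, i, j), heA _⟩
  let ι : A' →+* ℂ := A.val.toRingHom.comp A'.subtype
  have hι : Function.Injective ι := fun a b h => Subtype.ext (Subtype.ext h)
  have hlift : ∀ g, (lift g).map ι = ((g : GL (Fin r) ℂ) : Matrix (Fin r) (Fin r) ℂ) := fun g => rfl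
  let θ : G →* Matrix (Fin r) (Fin r) A' :=
    { toFun := lift
      map_one' := by
        apply Matrix.map_injective hι
        beta_reduce
        rw [hlift, Matrix.map_one ι (map_zero ι) (map_one ι)]
        rfl
      map_mul' := fun g h => by
        apply Matrix.map_injective hι
        beta_reduce
        rw [hlift, Matrix.map_mul, hlift, hlift]
        rfl }
  let μ : G →* Matrix (Fin r) (Fin r) (ZMod q) := (χ.mapMatrix.toMonoidHom).comp θ
  have hμ : ∀ g, μ g = 1 → g = 1 := by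
    intro g hg
    by_contra hne
    obtain ⟨i, j, hij⟩ : ∃ i j, E (g, i, j) ≠ (if i = j then 1 else 0) := by
      by_contra hall
      push Not at hall
      exact hne (Subtype.ext (Units.ext (Matrix.ext fun i j => by
        rw [show ((g : GL (Fin r) ℂ) : Matrix (Fin r) (Fin r) ℂ) i j = E (g, i, j) from rfl, hall i j]
        exact (Matrix.one_apply (i := i) (j := j)).symm)))
    set δ : A' := if i = j then 1 else 0 with hδ
    have hval : ι δ = if i = j then 1 else 0 := by rw [hδ]; split_ifs <;> simp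
    have h1 : ((⟨e (g, i, j), heA _⟩ : A') - δ) * ⟨f (g, i, j), hfA _⟩ = 1 := hι (by
      rw [map_mul, map_sub, hval, map_one]
      exact mul_inv_cancel₀ (sub_ne_zero.2 hij))
    have h2 : χ (⟨e (g, i, j), heA _⟩ : A') = χ δ := by
      have := congrFun (congrFun hg i) j
      refine Eq.trans this ?_
      rw [Matrix.one_apply, hδ]
      split_ifs <;> simp
    have h3 := congrArg χ h1
    rw [map_mul, map_sub, h2, sub_self, zero_mul, map_one] at h3
    exact zero_ne_one h3
  let η : Matrix (Fin r) (Fin r) (ZMod q) →* AddMonoid.End (Fin r → ZMod q) :=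
    { toFun := fun M => (Matrix.toLin' M).toAddMonoidHom
      map_one' := by rw [Matrix.toLin'_one]; rfl
      map_mul' := fun M M' => by rw [Matrix.toLin'_mul]; rfl }
  refine ⟨q, hq, hqG, (η.comp μ).toHomUnits, (injective_iff_map_eq_one _).2 fun g hg => hμ g ?_⟩
  have h1 : Matrix.toLin' (μ g) = Matrix.toLin' (1 : Matrix (Fin r) (Fin r) (ZMod q)) :=
    LinearMap.toAddMonoidHom_injective (by
      rw [Matrix.toLin'_one]
      exact congrArg Units.val hg)
  exact Matrix.toLin'.injective h1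

end CfsgLib.RegOrbit
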