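import Cfsg.Agent.Lib.RegOrbit.FittingClasses.Action

/-!
# The order of a primitive soluble group in terms of the parts
-/

set_option autoImplicit false
set_option linter.all false

namespace CfsgLib.RegOrbit

variable {V : Type*} [AddCommGroup V] [Finite V]
variable {p : ℕ} {G : Subgroup (AddMonoid.End V)ˣ}

namespace Setup

variable (S : Setup p G)

/-- The primes of `F/Z`. -/
noncomputable def primes : Finset ℕ := (Nat.card (S.F ⧸ S.zF)).primeFactors

theorem prime_of_mem {s : ℕ} (hs : s ∈ S.primes) : s.Prime := Nat.prime_of_mem_primeFactors hs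

/-- `Z` inside the multiplicative group of the field. -/
noncomputable def zUnits : S.Z →* S.Kˣ :=
  MonoidHom.toHomUnits
    { toFun := fun z => S.scal z z.2
      map_one' := Subtype.ext (op_one (G := G))
      map_mul' := fun a b => Subtype.ext (op_mul (a : G) b) }

theorem zUnits_injective : Function.Injective S.zUnits := fun a b h =>
  Subtype.ext (op_injective (congrArg Subtype.val (congrArg Units.val h)))

theorem card_z_dvd : Nat.card S.Z ∣ Nat.card S.K - 1 := by
  rw [← Nat.card_units]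
  exact Subgroup.card_dvd_of_injective S.zUnits S.zUnits_injective

theorem card_z_le : Nat.card S.Z ≤ Nat.card S.K - 1 := by
  have := S.card_z_lt
  omega

theorem prime_dvd_card_z {s : ℕ} (hs : s ∈ S.primes) : s ∣ Nat.card S.Z := by
  haveI := finiteGroup (G := G)
  have hsp := S.prime_of_mem hs
  obtain ⟨t, ht, -⟩ := S.exists_part_size
  obtain ⟨a, ha1, -, ha⟩ := ht s hs
  have h1 : 1 < Nat.card (S.Wq s) := by
    rw [ha]
    exact Nat.one_lt_pow two_ne_zero (Nat.one_lt_pow (by omega) hsp.one_lt)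
  haveI : Nontrivial (S.Wq s) := Finite.one_lt_card_iff_nontrivial.1 h1
  obtain ⟨u, hu⟩ := exists_ne (1 : S.Wq s)
  obtain ⟨x, rfl⟩ := QuotientGroup.mk_surjective u
  obtain ⟨y, hy⟩ : ∃ y : S.layer s, cm (x : G) (y : G) ≠ 1 := by
    by_contra h
    push Not at h
    exact hu ((QuotientGroup.eq_one_iff (N := S.zL s) x).2
      (S.eq_Z_of_layer x.2 fun y hy => cm_eq_one_iff.1 (h ⟨y, hy⟩)))
  haveI := Fact.mk hsp
  have hpow : cm (x : G) (y : G) ^ s = 1 :=
    S.cm_pow_prime (S.layer_le s y.2) (S.layer_le s x.2) (S.mem_layer.1 x.2).2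
  have ho : orderOf (⟨cm (x : G) (y : G), S.cm_mem (S.layer_le s x.2) (S.layer_le s y.2)⟩ : S.Z) = s :=
    orderOf_eq_prime (Subtype.ext hpow) fun e => hy (congrArg Subtype.val e)
  exact ho ▸ orderOf_dvd_natCard _

theorem prime_dvd_sub_one {s : ℕ} (hs : s ∈ S.primes) : s ∣ Nat.card S.K - 1 :=
  (S.prime_dvd_card_z hs).trans S.card_z_dvd

theorem card_quot_eq_prod : Nat.card (S.F ⧸ S.zF) = ∏ s ∈ S.primes, Nat.card (S.Wq s) := by
  haveI := finiteGroup (G := G)
  conv_lhs => rw [← Nat.prod_factorization_pow_eq_self (n := Nat.card (S.F ⧸ S.zF)) Nat.card_pos.ne']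
  rw [Finsupp.prod, Nat.support_factorization]
  exact Finset.prod_congr rfl fun s hs => (S.card_wq (S.prime_of_mem hs)).symm

theorem card_F_eq : Nat.card S.F = Nat.card (S.F ⧸ S.zF) * Nat.card S.Z := by
  rw [Subgroup.card_eq_card_quotient_mul_card_subgroup S.zF,
    ← Nat.card_congr (Subgroup.subgroupOfEquivOfLe S.le).toEquiv]
  rfl

/-- The images on the parts control the centraliser of `Z` over `F`. -/
theorem card_CZ_le :
    Nat.card S.CZ ≤ (∏ s ∈ S.primes, Nat.card (S.CZ.map (S.wAct s))) * Nat.card S.F := by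
  classical
  haveI := finiteGroup (G := G)
  let Φ : S.CZ →* ((s : S.primes) → (AddMonoid.End (S.Wa s))ˣ) :=
    Pi.monoidHom fun s => (S.wAct s).comp S.CZ.subtype
  rw [← Φ.ker.index_mul_card, Subgroup.index_ker]
  refine Nat.mul_le_mul ?_ ?_
  · rw [← Finset.prod_coe_sort, ← Nat.card_pi]
    refine Nat.card_le_card_of_injective
      (fun x s => (⟨x.1 s, ?_⟩ : S.CZ.map (S.wAct s))) fun x y e => ?_
    · obtain ⟨g, hg⟩ := x.2
      exact ⟨g, g.2, by rw [← hg]; rfl⟩
    · exact Subtype.ext (funext fun s => congrArg Subtype.val (congrFun e s))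
  · refine Nat.card_le_card_of_injective (fun g => (⟨(g.1 : G), ?_⟩ : S.F))
      fun g h e => Subtype.ext (Subtype.ext (congrArg (fun z : S.F => (z : G)) e))
    exact S.mem_F_of_wAct g.1.2 fun s hs => congrFun (MonoidHom.mem_ker.1 g.2) ⟨s, hs⟩

/-- The order in terms of the degree of the field and the parts. -/
theorem card_le_parts : ∃ f : ℕ, Nat.card S.K = p ^ f ∧ 1 ≤ f ∧ Nat.card V = p ^ (f * S.dimK) ∧
    Nat.card G ≤ f * (∏ s ∈ S.primes, Nat.card (S.CZ.map (S.wAct s))) *
      Nat.card (S.F ⧸ S.zF) * (Nat.card S.K - 1) := by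
  haveI := finiteGroup (G := G)
  obtain ⟨f, hK, hf, hidx⟩ := S.index_CZ_le
  refine ⟨f, hK, hf, by rw [S.card_eq_pow_dimK, hK, pow_mul], ?_⟩
  calc Nat.card G = S.CZ.index * Nat.card S.CZ := S.CZ.index_mul_card.symm
    _ ≤ f * ((∏ s ∈ S.primes, Nat.card (S.CZ.map (S.wAct s))) *
        (Nat.card (S.F ⧸ S.zF) * Nat.card S.Z)) :=
      Nat.mul_le_mul hidx (S.card_CZ_le.trans (le_of_eq (by rw [S.card_F_eq])))
    _ ≤ _ := by
      rw [mul_assoc, mul_assoc]
      gcongr
      exact S.card_z_le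

end Setup

end CfsgLib.RegOrbit
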