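import Cfsg.Agent.Lib.RegOrbit.Point
import Cfsg.Agent.Lib.RegOrbit.Count

/-!
# The factor `F/Z` of a primitive soluble linear group and its primary parts
-/

set_option autoImplicit false
set_option linter.all false

namespace CfsgLib.RegOrbit

open MulAction
open scoped Classical

variable {V : Type*} [AddCommGroup V] [Finite V]
variable {p : ℕ} {G : Subgroup (AddMonoid.End V)ˣ}

local notation "E" => AddMonoid.End V

namespace Setup

variable (S : Setup p G)

/-- The dimension of the space over the field of `Z`. -/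
noncomputable def dimK : ℕ := Module.finrank S.K V

theorem card_eq_pow_dimK : Nat.card V = Nat.card S.K ^ S.dimK :=
  Module.natCard_eq_pow_finrank (K := S.K) (V := V)

theorem dimK_pos : 0 < S.dimK := by
  haveI := S.prim.hirr.1
  by_contra h
  have h1 := S.card_eq_pow_dimK
  rw [Nat.eq_zero_of_not_pos h, pow_zero] at h1
  have : 1 < Nat.card V := Finite.one_lt_card
  omega

/-- `Z` inside `F`. -/
def zF : Subgroup S.F := S.Z.subgroupOf S.F

instance zF_normal : (S.zF).Normal :=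
  ⟨fun z hz f => Subgroup.mem_subgroupOf.2 (S.zNormal.conj_mem _ (Subgroup.mem_subgroupOf.1 hz) _)⟩

theorem comm_quot (a b : S.F ⧸ S.zF) : a * b = b * a := by
  obtain ⟨a, rfl⟩ := QuotientGroup.mk_surjective a
  obtain ⟨b, rfl⟩ := QuotientGroup.mk_surjective b
  rw [← QuotientGroup.mk_mul, ← QuotientGroup.mk_mul, QuotientGroup.eq, zF, Subgroup.mem_subgroupOf]
  have := S.cm_mem (inv_mem b.2) (inv_mem a.2)
  simpa [cm, mul_assoc] using this

/-- Representatives of the cosets of `Z` in `F` are independent over the field. -/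
theorem independent_reps {ι : Type*} [DecidableEq ι] (r : ι → G) (hr : ∀ u, r u ∈ S.F)
    (hsep : ∀ u u', u ≠ u' → ∃ a ∈ S.F, cm a (r u) ≠ cm a (r u')) :
    ∀ (T : Finset ι) (c : ι → S.K), (∀ v : V, ∑ u ∈ T, (c u : E) (r u • v) = 0) →
      ∀ u ∈ T, c u = 0 := by
  intro T
  induction T using Finset.induction_on with
  | empty => intro c _ u hu; simp at hu
  | insert u' T hu' ih =>
    intro c h
    haveI := S.prim.hirr.1
    have key : ∀ u ∈ T, c u = 0 := by
      intro u hu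
      obtain ⟨a, ha, hne⟩ := hsep u u' fun e => hu' (e ▸ hu)
      let ψ : ι → S.K := fun w => S.scal (cm a (r w)) (S.cm_mem ha (hr w))
      have h1 : ∀ v : V, ∑ w ∈ insert u' T, ((c w * ψ w : S.K) : E) (r w • v) = 0 := by
        intro v
        have h2 := congrArg (fun y => a • y) (h (a⁻¹ • v))
        simp only [Finset.smul_sum, smul_zero] at h2
        refine Eq.trans (Finset.sum_congr rfl fun w _ => ?_) h2
        rw [S.mul_apply, S.scal_apply, S.smul_apply ha, smul_smul, smul_smul, smul_smul]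
        congr 2
        simp [cm, mul_assoc]
      have h3 : ∀ v : V, ∑ w ∈ T, ((c w * (ψ w - ψ u') : S.K) : E) (r w • v) = 0 := by
        intro v
        have h4 : ∑ w ∈ insert u' T, ((c w * (ψ w - ψ u') : S.K) : E) (r w • v) = 0 := by
          have e : ∀ w, ((c w * (ψ w - ψ u') : S.K) : E) (r w • v)
              = ((c w * ψ w : S.K) : E) (r w • v) - (ψ u' : E) ((c w : E) (r w • v)) := fun w => by
            rw [← S.mul_apply, mul_comm (ψ u'), mul_sub]
            rfl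
          simp only [e, Finset.sum_sub_distrib, h1 v, ← map_sum, h v, map_zero, sub_zero]
        rwa [Finset.sum_insert hu', sub_self, mul_zero, show ((0 : S.K) : E) (r u' • v) = 0 from rfl,
          zero_add] at h4
      have h6 := ih _ h3 u hu
      refine (mul_eq_zero.1 h6).resolve_right fun h7 => hne (op_injective ?_)
      exact congrArg Subtype.val (sub_eq_zero.1 h7)
    intro u hu
    rcases Finset.mem_insert.1 hu with rfl | hu
    · obtain ⟨v, hv⟩ := exists_ne (0 : V)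
      have h8 := h v
      rw [Finset.sum_insert hu', Finset.sum_eq_zero fun w hw => by rw [key w hw]; rfl, add_zero] at h8
      exact S.eq_zero_of_apply (fun e => hv ((smul_eq_zero_iff_eq _).1 e)) h8
    · exact key u hu

/-- `|F : Z|` is at most the square of the dimension. -/
theorem card_quot_le : Nat.card (S.F ⧸ S.zF) ≤ S.dimK * S.dimK := by
  letI : DecidableEq (S.F ⧸ S.zF) := Classical.decEq _
  haveI := finiteGroup (G := G)
  haveI := Fintype.ofFinite (S.F ⧸ S.zF)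
  let r : S.F ⧸ S.zF → G := fun u => ((Quotient.out u : S.F) : G)
  have hr : ∀ u, r u ∈ S.F := fun u => (Quotient.out u : S.F).2
  have hsep : ∀ u u', u ≠ u' → ∃ a ∈ S.F, cm a (r u) ≠ cm a (r u') := by
    intro u u' hne
    by_contra h
    push Not at h
    refine hne ?_
    rw [← Quotient.out_eq u, ← Quotient.out_eq u']
    refine QuotientGroup.eq.2 (Subgroup.mem_subgroupOf.2 (S.cent _ fun f hf => ?_))
    refine (cm_eq_one_iff.1 ?_).symm
    push_cast
    rw [S.cm_mul_right (inv_mem (hr u)) (hr u') hf]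
    show cm f (r u)⁻¹ * cm f (r u') = 1
    rw [← h f hf, ← S.cm_mul_right (inv_mem (hr u)) (hr u) hf, inv_mul_cancel]
    simp [cm]
  let L : S.F ⧸ S.zF → (V →ₗ[S.K] V) := fun u =>
    { toFun := fun v => r u • v
      map_add' := smul_add _
      map_smul' := fun κ v => S.smul_apply (hr u) κ v }
  have hli : LinearIndependent S.K L := by
    rw [linearIndependent_iff']
    intro T c hc u hu
    refine S.independent_reps r hr hsep T c (fun v => ?_) u hu
    have := LinearMap.congr_fun hc v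
    simp only [LinearMap.sum_apply, LinearMap.smul_apply, LinearMap.zero_apply] at this
    exact this
  have h := hli.fintype_card_le_finrank
  rwa [Module.finrank_linearMap, ← Nat.card_eq_fintype_card] at h

theorem squarefree_quot (u : S.F ⧸ S.zF) : Squarefree (orderOf u) := by
  haveI := finiteGroup (G := G)
  obtain ⟨f, rfl⟩ := QuotientGroup.mk_surjective u
  have key : ∀ l : ℕ, ((f : S.F ⧸ S.zF)) ^ l = 1 ↔ (f : G) ^ l ∈ S.Z := fun l => by
    rw [← QuotientGroup.mk_pow, QuotientGroup.eq_one_iff, zF, Subgroup.mem_subgroupOf, Subgroup.coe_pow]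
  refine S.squarefree_orderOf f.2 (orderOf_pos _) ((key _).1 (pow_orderOf_eq_one _)) fun l hl hfl => ?_
  exact Nat.le_of_dvd hl (orderOf_dvd_of_pow_eq_one ((key l).2 hfl))

/-- `Z` inside the layer. -/
def zL (s : ℕ) : Subgroup (S.layer s) := S.Z.subgroupOf (S.layer s)

instance zL_normal (s : ℕ) : (S.zL s).Normal :=
  ⟨fun z hz f => Subgroup.mem_subgroupOf.2 (S.zNormal.conj_mem _ (Subgroup.mem_subgroupOf.1 hz) _)⟩

/-- The primary part. -/
abbrev Wq (s : ℕ) : Type _ := S.layer s ⧸ S.zL s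

theorem layer_le (s : ℕ) : S.layer s ≤ S.F := fun f hf => (S.mem_layer.1 hf).1

theorem z_le_layer (s : ℕ) : S.Z ≤ S.layer s := fun z hz => S.mem_layer.2 ⟨S.le hz, pow_mem hz s⟩

instance layer_normal (s : ℕ) : (S.layer s).Normal :=
  ⟨fun a ha g => S.mem_layer.2 ⟨S.fNormal.conj_mem a (S.mem_layer.1 ha).1 g, by
    rw [conj_pow]; exact S.zNormal.conj_mem _ (S.mem_layer.1 ha).2 g⟩⟩

instance wqComm (s : ℕ) : CommGroup (S.Wq s) :=
  { (inferInstance : Group (S.Wq s)) with
    mul_comm := fun a b => by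
      obtain ⟨a, rfl⟩ := QuotientGroup.mk_surjective a
      obtain ⟨b, rfl⟩ := QuotientGroup.mk_surjective b
      rw [← QuotientGroup.mk_mul, ← QuotientGroup.mk_mul, QuotientGroup.eq, zL, Subgroup.mem_subgroupOf]
      have := S.cm_mem (inv_mem (S.layer_le s b.2)) (inv_mem (S.layer_le s a.2))
      simpa [cm, mul_assoc] using this }

theorem pow_eq_one (s : ℕ) (u : S.Wq s) : u ^ s = 1 := by
  obtain ⟨a, rfl⟩ := QuotientGroup.mk_surjective u
  rw [← QuotientGroup.mk_pow, QuotientGroup.eq_one_iff, zL, Subgroup.mem_subgroupOf, Subgroup.coe_pow]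
  exact (S.mem_layer.1 a.2).2

/-- The primary part inside `F/Z`. -/
noncomputable def wqHom (s : ℕ) : S.Wq s →* S.F ⧸ S.zF :=
  QuotientGroup.map _ _ (Subgroup.inclusion (S.layer_le s)) fun z hz => hz

theorem wqHom_injective (s : ℕ) : Function.Injective (S.wqHom s) := by
  rw [injective_iff_map_eq_one]
  intro u hu
  obtain ⟨a, rfl⟩ := QuotientGroup.mk_surjective u
  have h1 : Subgroup.inclusion (S.layer_le s) a ∈ S.zF := (QuotientGroup.eq_one_iff _).1 hu
  exact (QuotientGroup.eq_one_iff (N := S.zL s) a).2 h1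

theorem mem_range_wqHom {s : ℕ} (u : S.F ⧸ S.zF) : u ∈ (S.wqHom s).range ↔ u ^ s = 1 := by
  constructor
  · rintro ⟨a, rfl⟩
    rw [← map_pow, S.pow_eq_one, map_one]
  · intro h
    obtain ⟨f, rfl⟩ := QuotientGroup.mk_surjective u
    rw [← QuotientGroup.mk_pow, QuotientGroup.eq_one_iff, zF, Subgroup.mem_subgroupOf,
      Subgroup.coe_pow] at h
    exact ⟨QuotientGroup.mk ⟨(f : G), S.mem_layer.2 ⟨f.2, h⟩⟩, rfl⟩

theorem card_wq {s : ℕ} (hs : s.Prime) :
    Nat.card (S.Wq s) = s ^ (Nat.card (S.F ⧸ S.zF)).factorization s := by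
  haveI := finiteGroup (G := G)
  haveI := Fact.mk hs
  obtain ⟨P⟩ := (inferInstance : Nonempty (Sylow s (S.F ⧸ S.zF)))
  haveI : (P : Subgroup (S.F ⧸ S.zF)).Normal :=
    ⟨fun a ha g => by rwa [S.comm_quot g a, mul_inv_cancel_right]⟩
  have hP : (S.wqHom s).range = P := by
    ext u
    rw [S.mem_range_wqHom]
    constructor
    · intro h
      have hq : IsPGroup s (Subgroup.zpowers u) := fun x => ⟨1, Subtype.ext (by
        obtain ⟨i, hi⟩ := x.2
        simp only at hi
        rw [pow_one, Subgroup.coe_pow, ← hi, ← zpow_natCast, ← zpow_mul, mul_comm, zpow_mul,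
          zpow_natCast, h, one_zpow, Subgroup.coe_one])⟩
      obtain ⟨Q, hQ⟩ := hq.exists_le_sylow
      haveI := Sylow.unique_of_normal P inferInstance
      rw [Subsingleton.elim P Q]
      exact hQ (Subgroup.mem_zpowers u)
    · intro h
      obtain ⟨k, hk⟩ := P.isPGroup' ⟨u, h⟩
      have hdvd : orderOf u ∣ s ^ k :=
        orderOf_dvd_of_pow_eq_one (by simpa using congrArg Subtype.val hk)
      obtain ⟨j, -, hj⟩ := (Nat.dvd_prime_pow hs).1 hdvd
      have hj1 : j ≤ 1 := by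
        by_contra h2
        have h3 : s * s ∣ orderOf u := by
          rw [hj, ← pow_two]; exact pow_dvd_pow s (by omega)
        exact hs.ne_one (Nat.isUnit_iff.1 (S.squarefree_quot u s h3))
      exact orderOf_dvd_iff_pow_eq_one.1 (hj ▸ (pow_dvd_pow s hj1).trans (by rw [pow_one]))
  rw [Nat.card_congr (MonoidHom.ofInjective (S.wqHom_injective s)).toEquiv, hP,
    P.card_eq_multiplicity]

theorem exists_commutator_root {s : ℕ} (hs : s.Prime) :
    ∀ z ∈ S.Z, z ^ s = 1 → ∀ ω ∈ S.Z, ω ^ s = 1 → ω ≠ 1 → ∃ i : ℕ, z = ω ^ i := by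
  intro z hz hzs ω hω hωs hω1
  haveI := Fact.mk hs
  have hprim : IsPrimitiveRoot (S.scal ω hω) s := by
    rw [IsPrimitiveRoot.iff_orderOf]
    refine orderOf_eq_prime ?_ fun h => hω1 ?_
    · rw [S.scal_pow]; exact Subtype.ext (by simp [scal, hωs, op_one])
    · exact op_injective (congrArg Subtype.val h)
  haveI : NeZero s := ⟨hs.ne_zero⟩
  obtain ⟨i, -, hi⟩ := hprim.eq_pow_of_pow_eq_one
    (show S.scal z hz ^ s = 1 by rw [S.scal_pow]; exact Subtype.ext (by simp [scal, hzs, op_one]))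
  exact ⟨i, op_injective (congrArg Subtype.val (hi.symm.trans (S.scal_pow ω hω i)))⟩

/-- A non-degenerate subgroup of a layer has square index over `Z`. -/
theorem exists_sq_card {s : ℕ} (hs : s.Prime) : ∀ (m : ℕ) (N : Subgroup G), Nat.card N = m →
    S.Z ≤ N → N ≤ S.layer s → (∀ a ∈ N, (∀ u ∈ N, a * u = u * a) → a ∈ S.Z) →
    ∃ a : ℕ, S.Z.relIndex N = (s ^ a) ^ 2 := by
  haveI := finiteGroup (G := G)
  intro m
  induction m using Nat.strong_induction_on with
  | _ m ih =>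
  intro N hm hZN hNL hN
  by_cases hNZ : N ≤ S.Z
  · exact ⟨0, by rw [Subgroup.relIndex_eq_one.2 hNZ]; simp⟩
  obtain ⟨a, ha, haZ⟩ := SetLike.not_le_iff_exists.1 hNZ
  obtain ⟨b, hb, hab⟩ : ∃ b ∈ N, cm a b ≠ 1 := by
    by_contra h
    push Not at h
    exact haZ (hN a ha fun u hu => cm_eq_one_iff.1 (h u hu))
  have haF := S.layer_le s (hNL ha)
  have hbF := S.layer_le s (hNL hb)
  set ω := cm a b with hω
  have hωZ : ω ∈ S.Z := S.cm_mem haF hbF
  have hpow : ∀ x ∈ N, ∀ y ∈ N, cm x y ^ s = 1 := fun x hx y hy =>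
    S.cm_pow_prime (S.layer_le s (hNL hy)) (S.layer_le s (hNL hx)) (S.mem_layer.1 (hNL hx)).2
  letI : CommGroup S.Z :=
    { (inferInstance : Group S.Z) with
      mul_comm := fun a b => Subtype.ext (S.zComm _ a.2 _ b.2) }
  let φ : N →* S.Z × S.Z := MonoidHom.mk'
    (fun x => (⟨cm (x : G) a, S.cm_mem (S.layer_le s (hNL x.2)) haF⟩,
      ⟨cm (x : G) b, S.cm_mem (S.layer_le s (hNL x.2)) hbF⟩))
    fun x y => Prod.ext (Subtype.ext (S.cm_mul_left (S.layer_le s (hNL x.2)) (S.layer_le s (hNL y.2)) haF))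
      (Subtype.ext (S.cm_mul_left (S.layer_le s (hNL x.2)) (S.layer_le s (hNL y.2)) hbF))
  let w : S.Z := ⟨ω, hωZ⟩
  have hwo : orderOf w = s := by
    haveI := Fact.mk hs
    exact orderOf_eq_prime (Subtype.ext (hpow a ha b hb)) fun h => hab (congrArg Subtype.val h)
  let T : Subgroup S.Z := Subgroup.zpowers w
  have hmemT : ∀ z : S.Z, (z : G) ^ s = 1 → z ∈ T := fun z hz => by
    obtain ⟨i, hi⟩ := S.exists_commutator_root hs z z.2 hz ω hωZ (hpow a ha b hb) hab
    exact ⟨i, Subtype.ext (by simp [w, hi])⟩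
  have hrange : φ.range = T.prod T := by
    refine le_antisymm ?_ ?_
    · rintro _ ⟨x, rfl⟩
      exact ⟨hmemT _ (hpow x x.2 a ha), hmemT _ (hpow x x.2 b hb)⟩
    · rintro ⟨x, y⟩ ⟨⟨i, hi⟩, ⟨j, hj⟩⟩
      have e1 : φ ⟨b, hb⟩ = (w⁻¹, 1) := Prod.ext (Subtype.ext (cm_inv a b).symm) (Subtype.ext (cm_self b))
      have e2 : φ ⟨a, ha⟩ = (1, w) := Prod.ext (Subtype.ext (cm_self a)) rfl
      refine ⟨(⟨b, hb⟩⁻¹) ^ i * ⟨a, ha⟩ ^ j, ?_⟩
      simp only at hi hj
      rw [map_mul, map_zpow, map_zpow, map_inv, e1, e2]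
      exact Prod.ext (by simpa using hi) (by simpa using hj)
  set N' := φ.ker.map N.subtype with hN'
  have hmem' : ∀ x, x ∈ N' ↔ x ∈ N ∧ cm x a = 1 ∧ cm x b = 1 := by
    intro x
    constructor
    · rintro ⟨y, hy, rfl⟩
      exact ⟨y.2, congrArg (fun z => ((z.1 : S.Z) : G)) hy, congrArg (fun z => ((z.2 : S.Z) : G)) hy⟩
    · rintro ⟨h1, h2, h3⟩
      exact ⟨⟨x, h1⟩, Prod.ext (Subtype.ext h2) (Subtype.ext h3), rfl⟩
  have hN'N : N' ≤ N := fun x hx => ((hmem' x).1 hx).1
  have hidx : N'.relIndex N = s ^ 2 := by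
    have h1 : N'.subgroupOf N = φ.ker := Subgroup.comap_map_eq_self_of_injective N.subtype_injective _
    rw [Subgroup.relIndex, h1, Subgroup.index_ker, hrange,
      Nat.card_congr (T.prodEquiv T).toEquiv, Nat.card_prod, Nat.card_zpowers, hwo, pow_two]
  have hZN' : S.Z ≤ N' := fun z hz => (hmem' z).2 ⟨hZN hz, S.cm_z_left hz haF, S.cm_z_left hz hbF⟩
  have hlt : Nat.card N' < m := by
    rw [← hm]
    refine lt_of_le_of_ne (Subgroup.card_le_of_le hN'N) fun e => ?_
    rw [Subgroup.eq_of_le_of_card_ge hN'N e.ge, Subgroup.relIndex_self] at hidx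
    exact (Nat.one_lt_pow two_ne_zero hs.one_lt).ne hidx
  obtain ⟨k, hk⟩ := ih _ hlt N' rfl hZN' (hN'N.trans hNL) fun x hx hxc => by
    obtain ⟨hxN, hxa, hxb⟩ := (hmem' x).1 hx
    refine hN x hxN fun u hu => cm_eq_one_iff.1 ?_
    obtain ⟨i, hi⟩ := S.exists_commutator_root hs _ (S.cm_mem (S.layer_le s (hNL hu)) haF)
      (hpow u hu a ha) ω hωZ (hpow a ha b hb) hab
    obtain ⟨j, hj⟩ := S.exists_commutator_root hs _ (S.cm_mem (S.layer_le s (hNL hu)) hbF)
      (hpow u hu b hb) ω hωZ (hpow a ha b hb) hab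
    have hxF := S.layer_le s (hNL hxN)
    have huF := S.layer_le s (hNL hu)
    have h1 : u * (b ^ i * (a ^ j)⁻¹) ∈ N' := by
      refine (hmem' _).2 ⟨mul_mem hu (mul_mem (pow_mem hb i) (inv_mem (pow_mem ha j))), ?_, ?_⟩
      · rw [S.cm_mul_left huF (mul_mem (pow_mem hbF i) (inv_mem (pow_mem haF j))) haF,
          S.cm_mul_left (pow_mem hbF i) (inv_mem (pow_mem haF j)) haF, hi, S.cm_pow_left hbF haF]
        have : cm (a ^ j)⁻¹ a = 1 :=
          cm_eq_one_iff.2 (((Commute.refl a).pow_left j).inv_left).eq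
        rw [this, mul_one, ← cm_inv a b, inv_pow, mul_inv_cancel]
      · rw [S.cm_mul_left huF (mul_mem (pow_mem hbF i) (inv_mem (pow_mem haF j))) hbF,
          S.cm_mul_left (pow_mem hbF i) (inv_mem (pow_mem haF j)) hbF, hj]
        have h2 : cm (b ^ i) b = 1 := cm_eq_one_iff.2 ((Commute.refl b).pow_left i).eq
        have h3 : cm (a ^ j)⁻¹ b * cm (a ^ j) b = 1 := by
          rw [← S.cm_mul_left (inv_mem (pow_mem haF j)) (pow_mem haF j) hbF, inv_mul_cancel]
          simp [cm]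
        rw [h2, one_mul, show cm (a ^ j)⁻¹ b = (cm (a ^ j) b)⁻¹ from eq_inv_of_mul_eq_one_left h3,
          S.cm_pow_left haF hbF, mul_inv_cancel]
    have h4 := cm_eq_one_iff.2 (hxc _ h1)
    rw [S.cm_mul_right huF (mul_mem (pow_mem hbF i) (inv_mem (pow_mem haF j))) hxF,
      S.cm_mul_right (pow_mem hbF i) (inv_mem (pow_mem haF j)) hxF, S.cm_pow_right hbF hxF, hxb,
      one_pow, one_mul, cm_eq_one_iff.2 ((Commute.pow_right (cm_eq_one_iff.1 hxa : Commute x a) j).inv_right).eq,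
      mul_one] at h4
    exact h4
  refine ⟨k + 1, ?_⟩
  rw [← Subgroup.relIndex_mul_relIndex S.Z N' N hZN' hN'N, hk, hidx]
  ring

/-- The square roots of the orders of the parts. -/
theorem exists_part_size : ∃ t : ℕ → ℕ,
    (∀ s ∈ (Nat.card (S.F ⧸ S.zF)).primeFactors,
      ∃ a, 1 ≤ a ∧ t s = s ^ a ∧ Nat.card (S.Wq s) = (s ^ a) ^ 2) ∧
    ∏ s ∈ (Nat.card (S.F ⧸ S.zF)).primeFactors, t s ≤ S.dimK := by
  haveI := finiteGroup (G := G)
  have hN0 : Nat.card (S.F ⧸ S.zF) ≠ 0 := Nat.card_pos.ne'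
  set P := (Nat.card (S.F ⧸ S.zF)).primeFactors
  have h : ∀ s ∈ P, ∃ a, 1 ≤ a ∧ Nat.card (S.Wq s) = (s ^ a) ^ 2 := by
    intro s hs
    have hsp := Nat.prime_of_mem_primeFactors hs
    obtain ⟨a, ha⟩ := S.exists_sq_card hsp _ (S.layer s) rfl (S.z_le_layer s) le_rfl
      fun f hf hc => S.eq_Z_of_layer hf hc
    have ha' : Nat.card (S.Wq s) = (s ^ a) ^ 2 := ha
    refine ⟨a, Nat.pos_of_ne_zero fun h0 => ?_, ha'⟩
    rw [h0, pow_zero, one_pow, S.card_wq hsp] at ha'
    have hpos : 0 < (Nat.card (S.F ⧸ S.zF)).factorization s :=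
      hsp.factorization_pos_of_dvd hN0 (Nat.dvd_of_mem_primeFactors hs)
    exact (Nat.one_lt_pow hpos.ne' hsp.one_lt).ne' ha'
  choose a ha1 ha2 using h
  refine ⟨fun s => if hs : s ∈ P then s ^ a s hs else 1, fun s hs =>
    ⟨a s hs, ha1 s hs, dif_pos hs, ha2 s hs⟩, ?_⟩
  refine Nat.mul_self_le_mul_self_iff.1 (le_trans (le_of_eq ?_) S.card_quot_le)
  rw [← Finset.prod_mul_distrib]
  conv_rhs => rw [← Nat.prod_factorization_pow_eq_self hN0]
  rw [Finsupp.prod, Nat.support_factorization]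
  refine Finset.prod_congr rfl fun s hs => ?_
  rw [dif_pos hs, ← pow_two, ← ha2 s hs, S.card_wq (Nat.prime_of_mem_primeFactors hs)]

/-- Elements of `G` that centralise `Z`. -/
def CZ : Subgroup G := Subgroup.centralizer (S.Z : Set G)

instance CZ_normal : (S.CZ).Normal := by
  haveI := S.zNormal
  exact inferInstanceAs (Subgroup.centralizer (S.Z : Set G)).Normal

theorem F_le_CZ : S.F ≤ S.CZ := fun f hf =>
  Subgroup.mem_centralizer_iff.2 fun z hz => (S.fCentral f hf z hz).symm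

/-- An element centralising `Z` and every part lies in `F`. -/
theorem mem_F_of_trivial {g : G} (hg : g ∈ S.CZ)
    (h : ∀ s, s.Prime → ∀ f ∈ S.layer s, g * f * g⁻¹ * f⁻¹ ∈ S.Z) : g ∈ S.F := by
  haveI := finiteGroup (G := G)
  haveI := S.zNormal
  have hcz : ∀ z ∈ S.Z, g * z = z * g := fun z hz => (Subgroup.mem_centralizer_iff.1 hg z hz).symm
  let M : Subgroup G :=
    { carrier := {f | f ∈ S.F ∧ g * f * g⁻¹ * f⁻¹ ∈ S.Z}
      one_mem' := ⟨one_mem _, by simp⟩
      mul_mem' := fun {a b} ha hb => ⟨mul_mem ha.1 hb.1, by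
        rw [show g * (a * b) * g⁻¹ * (a * b)⁻¹ = (g * a * g⁻¹ * a⁻¹) * (a * (g * b * g⁻¹ * b⁻¹) * a⁻¹) by
          group]
        exact mul_mem ha.2 (S.zNormal.conj_mem _ hb.2 a)⟩
      inv_mem' := fun {a} ha => ⟨inv_mem ha.1, by
        rw [show g * a⁻¹ * g⁻¹ * a⁻¹⁻¹ = a⁻¹ * (g * a * g⁻¹ * a⁻¹)⁻¹ * a by group]
        exact S.zNormal.conj_mem' _ (inv_mem ha.2) a⟩ }
  have hall : ∀ n : ℕ, Squarefree n → ∀ f ∈ S.F, f ^ n ∈ S.Z → f ∈ M := by
    intro n
    induction n using Nat.strong_induction_on with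
    | _ n ih =>
    intro hn f hf hfn
    rcases eq_or_ne n 1 with rfl | hn1
    · rw [pow_one] at hfn
      exact ⟨hf, by rw [hcz f hfn, mul_inv_cancel_right, mul_inv_cancel]; exact one_mem _⟩
    obtain ⟨s, hs, l, hl⟩ := Nat.exists_prime_and_dvd hn1
    subst hl
    have hco : Nat.Coprime s l := Nat.coprime_of_squarefree_mul hn
    have hl0 : 0 < l := Nat.pos_of_ne_zero fun e => not_squarefree_zero (by rw [e, mul_zero] at hn; exact hn)
    have hla : l < s * l := lt_mul_of_one_lt_left hl0 hs.one_lt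
    obtain ⟨x, y, hxy⟩ : ∃ x y : ℤ, (s : ℤ) * x + l * y = 1 := ⟨Nat.gcdA s l, Nat.gcdB s l, by
      rw [← Nat.gcd_eq_gcd_ab, hco.gcd_eq_one, Nat.cast_one]⟩
    have h1 : f ^ s ∈ M := ih l hla hn.of_mul_right _ (pow_mem hf s) (by rw [← pow_mul]; exact hfn)
    have h2 : f ^ l ∈ M := ⟨pow_mem hf l, h s hs _ (S.mem_layer.2 ⟨pow_mem hf l, by
      rw [← pow_mul, mul_comm]; exact hfn⟩)⟩
    have e : f = (f ^ s) ^ x * (f ^ l) ^ y := by
      rw [← zpow_natCast f s, ← zpow_natCast f l, ← zpow_mul, ← zpow_mul, ← zpow_add, hxy, zpow_one]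
    rw [e]
    exact mul_mem (zpow_mem h1 x) (zpow_mem h2 y)
  have htriv : ∀ f ∈ S.F, g * f * g⁻¹ * f⁻¹ ∈ S.Z := by
    intro f hf
    set u : S.F ⧸ S.zF := ((⟨f, hf⟩ : S.F) : S.F ⧸ S.zF)
    have hfu : f ^ orderOf u ∈ S.Z := by
      have := pow_orderOf_eq_one u
      exact (QuotientGroup.eq_one_iff (N := S.zF) _).1 ((QuotientGroup.mk_pow _ _ _).trans this)
    exact (hall _ (S.squarefree_quot u) f hf hfu).2
  letI : CommGroup S.Z :=
    { (inferInstance : Group S.Z) with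
      mul_comm := fun a b => Subtype.ext (S.zComm _ a.2 _ b.2) }
  let ψ : S.F →* S.Z := MonoidHom.mk' (fun f => ⟨g * f * g⁻¹ * (f : G)⁻¹, htriv f f.2⟩) fun a b => by
    refine Subtype.ext ?_
    show g * ((a : G) * b) * g⁻¹ * ((a : G) * b)⁻¹ = g * a * g⁻¹ * (a : G)⁻¹ * (g * b * g⁻¹ * (b : G)⁻¹)
    have h1 := S.fCentral _ (inv_mem a.2) _ (htriv b b.2)
    calc g * ((a : G) * b) * g⁻¹ * ((a : G) * b)⁻¹
        = g * a * g⁻¹ * ((g * b * g⁻¹ * (b : G)⁻¹) * (a : G)⁻¹) := by group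
      _ = g * a * g⁻¹ * ((a : G)⁻¹ * (g * b * g⁻¹ * (b : G)⁻¹)) := by rw [h1]
      _ = _ := by group
  obtain ⟨u, hu⟩ := S.exists_cm_eq_of S.F S.le le_rfl (fun a ha hc => S.cent a hc) ψ fun z hz =>
    Subtype.ext (by
      show g * (z : G) * g⁻¹ * (z : G)⁻¹ = 1
      rw [hcz _ hz]; group)
  have hgu : g * u ∈ S.Z := by
    refine S.cent _ fun f hf => cm_eq_one_iff.1 ?_
    have h1 : g * f * g⁻¹ * f⁻¹ = cm f (u : G) := hu ⟨f, hf⟩
    have h2 : cm (u : G) f * g = g * cm (u : G) f := (hcz _ (S.cm_mem u.2 hf)).symm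
    calc cm (g * (u : G)) f = g * (cm (u : G) f * f) * g⁻¹ * f⁻¹ := by simp [cm, mul_assoc]
      _ = cm (u : G) f * (g * f * g⁻¹ * f⁻¹) := by
          rw [← mul_assoc g, ← h2]; group
      _ = 1 := by rw [h1, ← cm_inv f (u : G), inv_mul_cancel]
  have := mul_mem (S.le hgu) (inv_mem u.2)
  simpa using this

/-- The index of the centraliser of `Z` is at most the degree of the field. -/
theorem index_CZ_le : ∃ f : ℕ, Nat.card S.K = p ^ f ∧ 1 ≤ f ∧ (S.CZ).index ≤ f := by
  haveI := finiteGroup (G := G)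
  haveI := S.fact
  haveI : CharP S.K p := (CharP.charP_iff_prime_eq_zero S.prim.prime).2 (Subtype.ext
    (DFunLike.ext _ _ fun v => by
      rw [SubringClass.coe_natCast, AddMonoid.End.natCast_apply]; exact S.prim.hexp v))
  letI : Algebra (ZMod p) S.K := ZMod.algebra S.K p
  let τ : G → (S.K ≃ₐ[ZMod p] S.K) := fun g =>
    AlgEquiv.ofBijective (AlgHom.mk (S.sig g) fun c => RingHom.congr_fun
      (RingHom.ext_zmod ((S.sig g).comp (algebraMap (ZMod p) S.K)) _) c)
      (Finite.injective_iff_bijective.1 (S.sig g).injective)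
  have hτ : ∀ g κ, ((τ g κ : S.K) : E) = conjOp g (κ : E) := fun g κ => rfl
  let φ : G →* (S.K ≃ₐ[ZMod p] S.K) := MonoidHom.mk' τ fun g h => AlgEquiv.ext fun κ => Subtype.ext (by
    rw [hτ, AlgEquiv.mul_apply, hτ, hτ, conjOp_conjOp])
  refine ⟨Module.finrank (ZMod p) S.K, ?_, Module.finrank_pos, ?_⟩
  · rw [Module.natCard_eq_pow_finrank (K := ZMod p), Nat.card_zmod]
  have hker : φ.ker ≤ S.CZ := fun g hg => Subgroup.mem_centralizer_iff.2 fun z hz => by
    have h1 : conjOp g (op G z) = op G z := by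
      have := hτ g (S.scal z hz)
      rw [show τ g = 1 from hg] at this
      exact this.symm
    rw [conjOp, ← op_mul, ← op_mul] at h1
    exact (mul_inv_eq_iff_eq_mul.1 (op_injective h1)).symm
  refine (Nat.le_of_dvd (Nat.pos_of_ne_zero Subgroup.index_ne_zero_of_finite)
    (Subgroup.index_dvd_of_le hker)).trans ?_
  haveI : Finite (S.K ≃ₐ[ZMod p] S.K) :=
    Finite.of_injective (fun e => (e : S.K → S.K)) DFunLike.coe_injective
  rw [Subgroup.index_ker]
  refine (Subgroup.card_le_card_group _).trans ?_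
  rw [Nat.card_eq_fintype_card]
  exact AlgEquiv.card_le (F := ZMod p) (K := S.K)

end Setup

end CfsgLib.RegOrbit
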