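import Cfsg.Agent.Lib.RegOrbit.FittingClasses.Linear
import Cfsg.Agent.Lib.PGroups.FrattiniModule
import Cfsg.Agent.Lib.Core.Hall
import Cfsg.Agent.Lib.Core.PLengthTwoMaximal

/-!
# Class numbers of soluble groups with trivial `p'`-core
-/

set_option autoImplicit false
set_option linter.all false

namespace CfsgLib.RegOrbit

universe u

open CfsgLib.ClassBounds

theorem kcl_le_pow_of_core_bot {X : Type u} [Group X] [Finite X] {p : ℕ} [hp : Fact p.Prime]
    (hsolv : Group.IsSolvable X) (hO : Cfsg.pPrimeCore p X = ⊥) :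
    kcl X ≤ 3 ^ ((Nat.card X).factorization p - 1) * p ^ (Nat.card X).factorization p := by
  classical
  haveI := hsolv
  obtain ⟨Φ, hΦn, V, hVn, hVR, hΦR, hVc, hVp, hCV, -⟩ :=
    CfsgLib.PGroups.frattini_module (CfsgLib.Core.isPSolvable_of_isSolvable hsolv) hO
  haveI := hΦn
  haveI := hVn
  have hY : Group.IsSolvable (X ⧸ Φ) :=
    Group.isSolvable_of_surjective (f := QuotientGroup.mk' Φ) (QuotientGroup.mk'_surjective Φ)
  haveI := hY
  obtain ⟨K, hK⟩ := CfsgLib.Core.exists_piHall (G := X ⧸ Φ) {q : ℕ | q ≠ p}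
  have hKp : (Nat.card K).Coprime p := Nat.Coprime.symm ((Nat.Prime.coprime_iff_not_dvd hp.out).2
    fun h => hK.1 p hp.out h rfl)
  have hΦp : ∃ a, Nat.card Φ = p ^ a :=
    IsPGroup.iff_card.1 ((CfsgLib.Core.isPGroup_pCore p X).to_le hΦR)
  obtain ⟨a, ha⟩ := hΦp
  obtain ⟨b, hb⟩ : ∃ b, K.index = p ^ b := by
    refine ⟨K.index.factorization p, (Nat.eq_prime_pow_of_unique_prime_dvd Subgroup.index_ne_zero_of_finite
      fun {q} hq hqd => by_contra fun hne => hK.2 q hq hne hqd).trans ?_⟩
    rw [Nat.factorization_def _ hp.out]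
    have h := Nat.eq_prime_pow_of_unique_prime_dvd (n := K.index) (p := p) Subgroup.index_ne_zero_of_finite
      fun {q} hq hqd => by_contra fun hne => hK.2 q hq hne hqd
    conv_rhs => rw [h, padicValNat.prime_pow]
  have hd : (Nat.card X).factorization p = a + b := by
    rw [Subgroup.card_eq_card_quotient_mul_card_subgroup Φ, ha, ← K.index_mul_card, hb,
      Nat.factorization_mul (mul_ne_zero (pow_ne_zero _ hp.out.ne_zero) Nat.card_pos.ne') (pow_ne_zero _ hp.out.ne_zero),
      Nat.factorization_mul (pow_ne_zero _ hp.out.ne_zero) Nat.card_pos.ne']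
    simp only [Finsupp.coe_add, Pi.add_apply, Nat.factorization_pow_self hp.out]
    rw [Nat.factorization_eq_zero_of_not_dvd fun h => hp.out.not_dvd_one (hKp ▸ Nat.dvd_gcd h (dvd_refl p))]
    omega
  have hk1 : kcl X ≤ p ^ a * kcl (X ⧸ Φ) := (kcl_le_mul Φ).trans
    (Nat.mul_le_mul_right _ ((kcl_le_card Φ).trans ha.le))
  -- the module
  letI cV : CommGroup V :=
    { (inferInstance : Group V) with mul_comm := fun u v => Subtype.ext (hVc _ u.2 _ v.2) }
  let ρ : K →* (AddMonoid.End (Additive V))ˣ := MonoidHom.toHomUnits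
    { toFun := fun k => MonoidHom.toAdditive (MulAut.conjNormal (k : X ⧸ Φ) : MulAut V).toMonoidHom
      map_one' := DFunLike.ext _ _ fun v => by
        refine Additive.toMul.injective ?_
        show (MulAut.conjNormal ((1 : K) : X ⧸ Φ) : MulAut V) (Additive.toMul v) = Additive.toMul v
        rw [Subgroup.coe_one, map_one, MulAut.one_apply]
      map_mul' := fun g h => DFunLike.ext _ _ fun v => by
        refine Additive.toMul.injective ?_
        show (MulAut.conjNormal ((g * h : K) : X ⧸ Φ) : MulAut V) (Additive.toMul v) = _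
        rw [Subgroup.coe_mul, map_mul, MulAut.mul_apply]
        rfl }
  have hdisj : ∀ y, y ∈ V → y ∈ K → y = 1 := by
    intro y hy hyK
    have h1 : orderOf y ∣ p := orderOf_dvd_of_pow_eq_one (hVp y hy)
    have h2 : orderOf (⟨y, hyK⟩ : K) ∣ Nat.card K := orderOf_dvd_natCard _
    rw [Subgroup.orderOf_mk] at h2
    exact orderOf_eq_one_iff.1 (Nat.eq_one_of_dvd_coprimes hKp h2 h1)
  have hinj : Function.Injective ρ := by
    rw [injective_iff_map_eq_one]
    intro k hk
    refine Subtype.ext (hdisj _ (hCV (Subgroup.mem_centralizer_iff.2 fun v hv => ?_)) k.2)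
    have h1 : ρ k • Additive.ofMul (⟨v, hv⟩ : V) = Additive.ofMul (⟨v, hv⟩ : V) := by
      rw [hk, one_smul]
    have h2 : (k : X ⧸ Φ) * v * (k : X ⧸ Φ)⁻¹ = v := congrArg Subtype.val (Additive.ofMul.injective h1)
    exact (mul_inv_eq_iff_eq_mul.1 h2).symm
  let ι : SPh ρ →* X ⧸ Φ := MonoidHom.mk'
    (fun x => ((Additive.toMul (Multiplicative.toAdd x.left) : V) : X ⧸ Φ) * (x.right : X ⧸ Φ))
    fun x y => by
      show ((Additive.toMul (Multiplicative.toAdd x.left + ρ x.right • Multiplicative.toAdd y.left) : V) : X ⧸ Φ)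
        * ((x.right * y.right : K) : X ⧸ Φ) = _
      rw [toMul_add, Subgroup.coe_mul, Subgroup.coe_mul,
        show ((Additive.toMul (ρ x.right • Multiplicative.toAdd y.left) : V) : X ⧸ Φ) =
          (x.right : X ⧸ Φ) * (Additive.toMul (Multiplicative.toAdd y.left) : V) * (x.right : X ⧸ Φ)⁻¹ from rfl]
      group
  have hι : Function.Injective ι := by
    rw [injective_iff_map_eq_one]
    intro x hx
    have h1 : (x.right : X ⧸ Φ) ∈ V := by
      rw [show (x.right : X ⧸ Φ) = ((Additive.toMul (Multiplicative.toAdd x.left) : V) : X ⧸ Φ)⁻¹ from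
        (inv_eq_of_mul_eq_one_right hx).symm]
      exact inv_mem (Additive.toMul (Multiplicative.toAdd x.left) : V).2
    have h2 : (x.right : X ⧸ Φ) = 1 := hdisj _ h1 x.right.2
    have h3 : ((Additive.toMul (Multiplicative.toAdd x.left) : V) : X ⧸ Φ) = 1 := by
      have : ((Additive.toMul (Multiplicative.toAdd x.left) : V) : X ⧸ Φ) * (x.right : X ⧸ Φ) = 1 := hx
      rwa [h2, mul_one] at this
    exact SemidirectProduct.ext (Multiplicative.toAdd.injective (Additive.toMul.injective (Subtype.ext h3)))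
      (Subtype.ext h2)
  haveI : Finite (Additive V) := inferInstanceAs (Finite V)
  have hk2 : kcl (X ⧸ Φ) ≤ ι.range.index * kcl (SPh ρ) := by
    refine (kcl_le_index_mul ι.range).trans (le_of_eq ?_)
    rw [kcl_range_of_injective ι hι]
  have hcard : ι.range.index * Nat.card V = p ^ b := by
    have h1 := ι.range.index_mul_card
    rw [← Nat.card_congr (MonoidHom.ofInjective hι).toEquiv,
      Nat.card_congr SemidirectProduct.equivProd, Nat.card_prod, ← K.index_mul_card, hb,
      ← mul_assoc] at h1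
    exact Nat.eq_of_mul_eq_mul_right Nat.card_pos h1
  obtain ⟨c, hc⟩ : ∃ c, Nat.card V = p ^ c := by
    obtain ⟨c, -, hc⟩ := (Nat.dvd_prime_pow hp.out).1
      (show Nat.card V ∣ p ^ b from ⟨ι.range.index, by rw [← hcard]; exact mul_comm _ _⟩)
    exact ⟨c, hc⟩
  refine hk1.trans ?_
  rw [hd]
  rcases Nat.eq_zero_or_pos c with rfl | hc1
  · rw [pow_zero] at hc
    have hV1 : V = ⊥ := Subgroup.eq_bot_of_card_eq _ hc
    have htriv : Nat.card (X ⧸ Φ) = 1 := by
      haveI : Subsingleton (X ⧸ Φ) := ⟨fun u v => by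
        have h : ∀ w : X ⧸ Φ, w = 1 := fun w => by
          have := hCV (show w ∈ Subgroup.centralizer (V : Set (X ⧸ Φ)) from
            Subgroup.mem_centralizer_iff.2 fun v hv => by
              rw [hV1] at hv
              rw [Subgroup.mem_bot.1 hv, one_mul, mul_one])
          rw [hV1] at this
          exact Subgroup.mem_bot.1 this
        rw [h u, h v]⟩
      exact Nat.card_unique
    refine (Nat.mul_le_mul_left _ ((kcl_le_card _).trans htriv.le)).trans ?_
    rw [mul_one]
    exact (Nat.pow_le_pow_right hp.out.pos (Nat.le_add_right a b)).trans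
      (Nat.le_mul_of_pos_left _ (pow_pos (by norm_num) _))
  haveI : Group.IsSolvable K := Group.isSolvable_of_isSolvable_injective (f := K.subtype) K.subtype_injective
  have hk3 := kcl_SPh_le hp.out ρ hinj
    (fun v => Additive.toMul.injective (Subtype.ext (by
      rw [toMul_nsmul]; exact hVp _ (Additive.toMul v).2)))
    hKp hc1 (show Nat.card (Additive V) = p ^ c from hc)
  refine (Nat.mul_le_mul_left _ (hk2.trans (Nat.mul_le_mul_left _ hk3))).trans ?_
  have hcb : c ≤ b := (Nat.pow_le_pow_iff_right hp.out.one_lt).1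
    (hc ▸ hcard ▸ Nat.le_mul_of_pos_left _ (Nat.pos_of_ne_zero Subgroup.index_ne_zero_of_finite))
  calc p ^ a * (ι.range.index * (3 ^ (c - 1) * p ^ c)) = 3 ^ (c - 1) * (p ^ a * p ^ b) := by
        rw [← hcard, hc]; ring
    _ ≤ 3 ^ (a + b - 1) * (p ^ a * p ^ b) :=
        Nat.mul_le_mul_right _ (Nat.pow_le_pow_right (by norm_num) (by omega))
    _ = _ := by rw [← pow_add]

end CfsgLib.RegOrbit
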