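import Cfsg.Agent.Lib.ClassCount.Bounds.Tools
import Cfsg.Agent.Lib.RegOrbit.Main

/-!
# Class numbers and orders of small linear groups
-/

set_option autoImplicit false
set_option linter.all false

namespace CfsgLib.RegOrbit

open MulAction CfsgLib.ClassBounds

/-- Few elements with large centralisers give few classes. -/
theorem kcl_lt_of_centralizer {H : Type*} [Group H] [Finite H] {M : Type*} (φ : H → M)
    (T : Set H) (c b : ℕ) (h1 : (1 : H) ∈ T) (hb : 0 < b) (hc : Nat.card T ≤ c)
    (hC : ∀ h ∉ T, Nat.card (Subgroup.centralizer ({h} : Set H)) ≤ b) : kcl H < c + b := by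
  have h := kcl_mul_card_le T b hC
  have hT : 0 < Nat.card T := by
    haveI : Nonempty T := ⟨⟨1, h1⟩⟩
    exact Nat.card_pos
  have hH : 0 < Nat.card H := Nat.card_pos
  refine Nat.lt_of_mul_lt_mul_right (a := Nat.card H) (lt_of_le_of_lt h ?_)
  rw [add_mul]
  refine add_lt_add_of_le_of_lt (Nat.mul_le_mul_right _ hc) ?_
  rw [mul_comm b]
  exact Nat.mul_lt_mul_of_pos_right (Nat.sub_lt hH hT) hb

theorem centralizer_three : ∀ g : Equiv.Perm (Fin 3), g ≠ 1 →
    (Finset.univ.filter fun h : Equiv.Perm (Fin 3) => g * h = h * g).card ≤ 3 := by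
  decide

/-- Two by two matrices over the field with three elements. -/
abbrev Quad : Type := ZMod 3 × ZMod 3 × ZMod 3 × ZMod 3

/-- The product of matrices. -/
def qmul (A B : Quad) : Quad :=
  (A.1 * B.1 + A.2.1 * B.2.2.1, A.1 * B.2.1 + A.2.1 * B.2.2.2,
    A.2.2.1 * B.1 + A.2.2.2 * B.2.2.1, A.2.2.1 * B.2.1 + A.2.2.2 * B.2.2.2)

/-- The determinant. -/
def qdet (A : Quad) : ZMod 3 := A.1 * A.2.2.2 - A.2.1 * A.2.2.1

theorem centralizer_quad : ∀ A : Quad, qdet A ≠ 0 → A ≠ (1, 0, 0, 1) → A ≠ (-1, 0, 0, -1) →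
    (Finset.univ.filter fun B : Quad => qdet B ≠ 0 ∧ qmul A B = qmul B A).card ≤ 8 := by
  decide +kernel

variable {W : Type*} [AddCommGroup W] [Finite W]

theorem eq_of_smul {R : Subgroup (AddMonoid.End W)ˣ} {g h : R} (e : ∀ w : W, g • w = h • w) : g = h :=
  Subtype.ext (Units.ext (DFunLike.ext _ _ e))

theorem kcl_le_three (R : Subgroup (AddMonoid.End W)ˣ) [Finite R] (hW : Nat.card W = 4) :
    kcl R ≤ 3 := by
  classical
  have h3 : Nat.card {w : W // w ≠ 0} = 3 := by
    haveI := Fintype.ofFinite W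
    rw [Nat.card_eq_fintype_card, Fintype.card_subtype_compl, Fintype.card_subtype_eq,
      ← Nat.card_eq_fintype_card, hW]
  let e : {w : W // w ≠ 0} ≃ Fin 3 := Finite.equivFinOfCardEq h3
  let pp : R → Equiv.Perm {w : W // w ≠ 0} := fun g => (MulAction.toPerm g).subtypePerm fun w => by
    show g • w ≠ 0 ↔ w ≠ 0
    exact not_congr (smul_eq_zero_iff_eq g)
  let φ : R → Equiv.Perm (Fin 3) := fun g => e.permCongr (pp g)
  have hmul : ∀ g h, φ (g * h) = φ g * φ h := fun g h => by
    refine Equiv.ext fun i => ?_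
    simp [φ, pp, Equiv.permCongr_apply, mul_smul]
  have hinj : Function.Injective φ := fun g h eq => by
    have eq2 := e.permCongr.injective eq
    refine eq_of_smul fun w => ?_
    rcases eq_or_ne w 0 with rfl | hw
    · rw [smul_zero, smul_zero]
    · exact congrArg Subtype.val (Equiv.ext_iff.1 eq2 ⟨w, hw⟩)
  have hone : φ 1 = 1 := Equiv.ext fun i => by simp [φ, pp, Equiv.permCongr_apply]
  suffices kcl R < 1 + 3 by omega
  refine kcl_lt_of_centralizer φ {1} 1 3 rfl (by omega) (by simp) fun g hg => ?_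
  refine le_trans ?_ (centralizer_three (φ g) fun h => hg (hinj (h.trans hone.symm)))
  rw [← Nat.card_eq_finsetCard]
  refine Nat.card_le_card_of_injective (fun h => ⟨φ h, Finset.mem_filter.2 ⟨Finset.mem_univ _, ?_⟩⟩) ?_
  · rw [← hmul, ← hmul, Subgroup.mem_centralizer_singleton_iff.1 h.2]
  · intro h h' eq
    exact Subtype.ext (hinj (congrArg Subtype.val eq))

theorem kcl_le_nine (R : Subgroup (AddMonoid.End W)ˣ) [Finite R] (hexp : ∀ w : W, 3 • w = 0)
    (hW : Nat.card W = 9) : kcl R ≤ 9 := by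
  classical
  haveI : Fact (Nat.Prime 3) := ⟨Nat.prime_three⟩
  letI : Module (ZMod 3) W := AddCommGroup.zmodModule (n := 3) hexp
  have hf : Module.finrank (ZMod 3) W = 2 := by
    have h1 := Module.natCard_eq_pow_finrank (K := ZMod 3) (V := W)
    rw [hW, Nat.card_zmod] at h1
    exact (Nat.pow_right_injective (by norm_num : 2 ≤ 3) (h1.symm.trans (by norm_num : (9 : ℕ) = 3 ^ 2)))
  let bs := Module.finBasisOfFinrankEq (ZMod 3) W hf
  let L : R → (W →ₗ[ZMod 3] W) := fun g => (DistribMulAction.toAddMonoidHom W g).toZModLinearMap 3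
  have hLmul : ∀ g h, L (g * h) = L g * L h := fun g h => LinearMap.ext fun w => mul_smul g h w
  have hL1 : L 1 = 1 := LinearMap.ext fun w => one_smul R w
  let m : R → Matrix (Fin 2) (Fin 2) (ZMod 3) := fun g => LinearMap.toMatrixAlgEquiv bs (L g)
  let φ : R → Quad := fun g => (m g 0 0, m g 0 1, m g 1 0, m g 1 1)
  have hmul : ∀ g h, φ (g * h) = qmul (φ g) (φ h) := fun g h => by
    simp only [φ, m, qmul, hLmul, map_mul, Matrix.mul_apply, Fin.sum_univ_two]
  have hone : φ 1 = (1, 0, 0, 1) := by simp [φ, m, hL1]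
  have hinj : Function.Injective φ := fun g h eq => by
    simp only [φ, Prod.mk.injEq] at eq
    have : m g = m h := by
      ext i j
      fin_cases i <;> fin_cases j
      · exact eq.1
      · exact eq.2.1
      · exact eq.2.2.1
      · exact eq.2.2.2
    have := (LinearMap.toMatrixAlgEquiv bs).injective this
    exact eq_of_smul fun w => LinearMap.congr_fun this w
  have hdet : ∀ g, qdet (φ g) ≠ 0 := fun g h0 => by
    have h1 : (m g).det * (m g⁻¹).det = 1 := by
      rw [← Matrix.det_mul]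
      simp only [m, ← map_mul, ← hLmul, mul_inv_cancel, hL1, map_one, Matrix.det_one]
    have h2 : (m g).det = qdet (φ g) := Matrix.det_fin_two _
    rw [h2, h0, zero_mul] at h1
    exact zero_ne_one h1
  suffices kcl R < 2 + 8 by omega
  refine kcl_lt_of_centralizer φ {g | φ g = (1, 0, 0, 1) ∨ φ g = (-1, 0, 0, -1)} 2 8
    (Or.inl hone) (by omega) ?_ fun g hg => ?_
  · refine le_trans (Nat.card_le_card_of_injective
      (fun g => (⟨φ g.1, ?_⟩ : ({(1, 0, 0, 1), (-1, 0, 0, -1)} : Finset Quad))) fun g g' eq => ?_) ?_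
    · obtain ⟨g, hg'⟩ := g
      simpa using hg'
    · exact Subtype.ext (hinj (congrArg Subtype.val eq))
    · rw [Nat.card_eq_finsetCard]; exact Finset.card_le_two
  · simp only [Set.mem_setOf_eq, not_or] at hg
    refine le_trans ?_ (centralizer_quad (φ g) (hdet g) hg.1 hg.2)
    rw [← Nat.card_eq_finsetCard]
    refine Nat.card_le_card_of_injective
      (fun h => ⟨φ h, Finset.mem_filter.2 ⟨Finset.mem_univ _, hdet _, ?_⟩⟩) ?_
    · rw [← hmul, ← hmul, Subgroup.mem_centralizer_singleton_iff.1 h.2]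
    · intro h h' eq
      exact Subtype.ext (hinj (congrArg Subtype.val eq))

/-- Five regular orbits on triples bound the order. -/
theorem five_mul_card_le (R : Subgroup (AddMonoid.End W)ˣ) [Finite R] [Group.IsSolvable R]
    (hcr : CompRed R W) [Nontrivial W] : 5 * Nat.card R ≤ Nat.card W ^ 3 := by
  obtain ⟨f, hf⟩ := hasBaseOrbits_five _ W R rfl inferInstance hcr
  have hinj : Function.Injective fun x : R × Fin 5 => fun t => x.1 • f x.2 t := by
    rintro ⟨g, i⟩ ⟨h, j⟩ e
    obtain ⟨hij, htriv⟩ := hf (h⁻¹ * g) i j fun t => by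
      rw [mul_smul, inv_smul_eq_iff]; exact congrFun e t
    refine Prod.ext ?_ hij
    exact (inv_mul_eq_one.1 (eq_of_smul fun v => by rw [htriv v, one_smul])).symm
  have h := Nat.card_le_card_of_injective _ hinj
  rw [Nat.card_prod, Nat.card_fun, Nat.card_fin, Nat.card_fin, mul_comm] at h
  exact h

theorem pow_six_le : ∀ t : ℕ, 16 ≤ t → t ^ 6 ≤ 5 * 3 ^ (t - 1) := by
  intro t ht
  induction t, ht using Nat.le_induction with
  | base => norm_num
  | succ t ht ih =>
    have h1 : (t + 1) ^ 6 * 16 ^ 6 ≤ (17 * t) ^ 6 := by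
      rw [← mul_pow]; exact Nat.pow_le_pow_left (by omega) 6
    have h2 : t + 1 - 1 = (t - 1) + 1 := by omega
    rw [h2, pow_succ 3]
    rw [mul_pow] at h1
    norm_num at h1
    linarith [Nat.zero_le (3 ^ (t - 1))]

theorem cube_le : ∀ t : ℕ, 7 ≤ t → t ^ 3 ≤ 3 ^ (t - 1) := by
  intro t ht
  induction t, ht using Nat.le_induction with
  | base => norm_num
  | succ t ht ih =>
    have h1 : (t + 1) ^ 3 * 7 ^ 3 ≤ (8 * t) ^ 3 := by
      rw [← mul_pow]; exact Nat.pow_le_pow_left (by omega) 3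
    have h2 : t + 1 - 1 = (t - 1) + 1 := by omega
    rw [h2, pow_succ 3]
    rw [mul_pow] at h1
    norm_num at h1
    linarith [Nat.zero_le (3 ^ (t - 1))]

end CfsgLib.RegOrbit
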