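import Cfsg.Agent.Lib.RegOrbit.FittingClasses.Table
import Cfsg.Agent.Lib.RegOrbit.FittingClasses.Small

/-!
# Class numbers of subgroups of soluble completely reducible groups on sixteen vectors
-/

set_option autoImplicit false
set_option linter.all false

namespace CfsgLib.RegOrbit

universe u

open MulAction CfsgLib.ClassBounds

theorem kcl_le_nine_of_pair {H : Type*} [Group H] [Finite H] {U U' : Type*} [AddCommGroup U] [Finite U]
    [AddCommGroup U'] [Finite U'] (f : H →* (AddMonoid.End U)ˣ) (f' : H →* (AddMonoid.End U')ˣ)
    (hU : Nat.card U = 4) (hU' : Nat.card U' = 4) (hinj : ∀ h, f h = 1 → f' h = 1 → h = 1) :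
    kcl H ≤ 9 := by
  refine ((kcl_le_ker_range f).trans (Nat.mul_le_mul ?_ (kcl_le_three _ hU))).trans (show 3 * 3 ≤ 9 by norm_num)
  have hi : Function.Injective (f'.comp f.ker.subtype) := (injective_iff_map_eq_one _).2 fun h hh =>
    Subtype.ext (hinj h.1 h.2 hh)
  rw [← kcl_range_of_injective _ hi]
  exact kcl_le_three _ hU'

theorem kcl_le_sixteen {W : Type u} [AddCommGroup W] [Finite W] (R : Subgroup (AddMonoid.End W)ˣ)
    (hexp : ∀ w : W, 2 • w = 0) (hW : Nat.card W = 2 ^ 4) (hsolv : Group.IsSolvable R)
    (hcr : CompRed R W) (H : Subgroup R) : kcl H ≤ 27 := by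
  classical
  haveI := hsolv
  haveI := finiteGroup (G := R)
  haveI := Fact.mk Nat.prime_two
  haveI : Nontrivial W := Finite.one_lt_card_iff_nontrivial.1 (by rw [hW]; norm_num)
  have hsmall : Nat.card R ≤ 27 → kcl H ≤ 27 := fun h =>
    (kcl_le_card H).trans ((Subgroup.card_le_card_group H).trans h)
  rcases prim_or_split Nat.prime_two hexp R hcr with hprim | ⟨U, U', hU, hU', hinf, hsup, h1, h2⟩ |
      ⟨hirr, m, hm, ⟨D⟩⟩
  · obtain ⟨S⟩ := exists_setup hprim
    obtain ⟨f, hK, hf, hV, hle⟩ := S.card_le_parts
    have hne : f * S.dimK = 4 := Nat.pow_right_injective le_rfl (hV.symm.trans hW)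
    have he1 : 1 ≤ S.dimK := S.dimK_pos
    have hP : S.primes = ∅ := Finset.eq_empty_of_forall_notMem fun q hq => by
      have hdvd := S.prime_dvd_sub_one hq
      rw [hK] at hdvd
      obtain ⟨t, ht, hte⟩ := S.exists_part_size
      obtain ⟨a, ha, hta, -⟩ := ht q hq
      have hqp := S.prime_of_mem hq
      have hqe : q ≤ S.dimK := by
        refine le_trans ?_ hte
        refine le_trans ?_ (Finset.single_le_prod' (fun s hs => ?_) hq)
        · rw [hta]; exact Nat.le_self_pow (by omega) q
        · obtain ⟨b, -, hb, -⟩ := ht s hs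
          rw [hb]; exact Nat.one_le_pow _ _ (S.prime_of_mem hs).pos
      have hf4 : f ≤ 4 := le_trans (Nat.le_mul_of_pos_right f he1) hne.le
      have := hqp.two_le
      have hq4 : q ≤ 4 := hqe.trans (le_trans (Nat.le_mul_of_pos_left _ hf) hne.le)
      interval_cases f <;> interval_cases q <;>
        first
          | omega
          | exact absurd hqp (by norm_num)
    rw [hP, Finset.prod_empty, S.card_quot_eq_prod, hP, Finset.prod_empty, mul_one, mul_one, hK] at hle
    rcases (show f ≤ 3 ∨ f = 4 by
        have := Nat.le_mul_of_pos_right f he1; omega) with hf3 | rfl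
    · exact hsmall (hle.trans (by interval_cases f <;> norm_num))
    have hZd : Nat.card S.Z ∣ 15 := by have := S.card_z_dvd; rwa [hK] at this
    have hCZ : S.CZ ≤ S.Z := fun g hg => by
      have hFZ : S.F ≤ S.Z := by
        have h1 : Nat.card (S.F ⧸ S.zF) = 1 := by rw [S.card_quot_eq_prod, hP, Finset.prod_empty]
        haveI := (Nat.card_eq_one_iff_unique.1 h1).1
        intro x hx
        exact Subgroup.mem_subgroupOf.1 ((QuotientGroup.eq_one_iff (N := S.zF) (⟨x, hx⟩ : S.F)).1
          (Subsingleton.elim _ _))
      exact hFZ (S.mem_F_of_wAct hg fun s hs => absurd hs (by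
        show s ∉ S.primes
        rw [hP]; exact Finset.notMem_empty _))
    haveI := S.zNormal
    have hidx : S.Z.index ≤ 4 := by
      obtain ⟨f', hK', -, hidx⟩ := S.index_CZ_le
      have : f' = 4 := Nat.pow_right_injective le_rfl (hK'.symm.trans hK)
      subst this
      refine le_trans ?_ hidx
      exact Nat.le_of_dvd (Nat.pos_of_ne_zero Subgroup.index_ne_zero_of_finite)
        (Subgroup.index_dvd_of_le hCZ)
    have hR : Nat.card R ≤ 4 * Nat.card S.Z := by
      rw [← S.Z.index_mul_card]; exact Nat.mul_le_mul_right _ hidx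
    rcases (show Nat.card S.Z ≤ 5 ∨ Nat.card S.Z = 15 by
        have h15 := Nat.le_of_dvd (by norm_num) hZd
        by_contra hc
        push Not at hc
        obtain ⟨h5, h15'⟩ := hc
        interval_cases Nat.card S.Z <;> omega) with hZ | hZ
    · exact hsmall (hR.trans (by omega))
    have hfix : ∀ g : R, g ∉ S.Z → Nat.card (S.Z ⊓ Subgroup.centralizer ({g} : Set R) : Subgroup R) ≤ 3 := by
      intro g hg
      let C : Subgroup R := S.Z ⊓ Subgroup.centralizer ({g} : Set R)
      let L : AddSubgroup S.K :=
        { carrier := {κ | conjOp g (κ : AddMonoid.End W) = κ}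
          zero_mem' := by simp [conjOp]
          add_mem' := fun {a b} ha hb => by
            show conjOp g ((a : AddMonoid.End W) + b) = a + b
            rw [show conjOp g ((a : AddMonoid.End W) + b) = conjOp g (a : AddMonoid.End W) + conjOp g b by
              simp [conjOp, mul_add, add_mul], show conjOp g (a : AddMonoid.End W) = a from ha,
              show conjOp g (b : AddMonoid.End W) = b from hb]
          neg_mem' := fun {a} ha => by
            show conjOp g (-(a : AddMonoid.End W)) = -a
            rw [show conjOp g (-(a : AddMonoid.End W)) = -conjOp g (a : AddMonoid.End W) by simp [conjOp],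
              show conjOp g (a : AddMonoid.End W) = a from ha] }
      have hiff : ∀ z (hz : z ∈ S.Z), S.scal z hz ∈ L ↔ g * z = z * g := fun z hz => by
        show conjOp g (op R z) = op R z ↔ _
        rw [conjOp, ← op_mul, ← op_mul]
        exact ⟨fun h => mul_inv_eq_iff_eq_mul.1 (op_injective h),
          fun h => congrArg (op R) (mul_inv_eq_iff_eq_mul.2 h)⟩
      have hsurj : ∀ κ : S.K, κ ≠ 0 → ∃ z : S.Z, S.scal z z.2 = κ := by
        intro κ hκ
        have hbij : Function.Bijective S.zUnits :=
          S.zUnits_injective.bijective_of_nat_card_le (by rw [Nat.card_units, hK, hZ]; norm_num)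
        obtain ⟨z, hz⟩ := hbij.2 (Units.mk0 κ hκ)
        exact ⟨z, congrArg Units.val hz⟩
      have hC : Nat.card L = Nat.card C + 1 := by
        rw [← Finite.card_option]
        symm
        refine Nat.card_congr (Equiv.ofBijective (fun o : Option C => o.elim (0 : L) fun z =>
          ⟨S.scal z.1 z.2.1, (hiff _ z.2.1).2 (Subgroup.mem_centralizer_singleton_iff.1 z.2.2).symm⟩) ⟨?_, ?_⟩)
        · intro a b e
          cases a with
          | none => cases b with
            | none => rfl
            | some b => exact absurd (congrArg Subtype.val e).symm (S.scal_ne_zero _ b.2.1)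
          | some a => cases b with
            | none => exact absurd (congrArg Subtype.val e) (S.scal_ne_zero _ a.2.1)
            | some b => exact congrArg some (Subtype.ext (op_injective
                (congrArg (fun x : L => ((x : S.K) : AddMonoid.End W)) e)))
        · rintro ⟨κ, hκ⟩
          rcases eq_or_ne κ 0 with rfl | hne0
          · exact ⟨none, rfl⟩
          obtain ⟨z, rfl⟩ := hsurj κ hne0
          exact ⟨some ⟨z, z.2, Subgroup.mem_centralizer_singleton_iff.2 ((hiff _ z.2).1 hκ).symm⟩, rfl⟩
      have hL : Nat.card L ≠ 16 := by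
        intro h16
        have hT : L = ⊤ := AddSubgroup.eq_top_of_card_eq L (by rw [h16, hK]; norm_num)
        refine hg (hCZ (Subgroup.mem_centralizer_iff.2 fun z hz => ?_))
        exact ((hiff z hz).1 (hT ▸ AddSubgroup.mem_top _)).symm
      have hd : Nat.card L ∣ 16 := by
        have := L.card_addSubgroup_dvd_card
        rwa [hK] at this
      have hd' : Nat.card C ∣ 15 := hZ ▸ Subgroup.card_dvd_of_le inf_le_left
      have := Nat.le_of_dvd (by norm_num) hd
      show Nat.card C ≤ 3
      have hCle := Nat.le_of_dvd (by norm_num) hd'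
      rw [hC] at hd hL
      interval_cases Nat.card C <;> omega
    have hHle : kcl H < 15 + 12 := by
      refine kcl_lt_of_centralizer (fun h : H => (h : R)) {h | (h : R) ∈ S.Z} 15 12 (one_mem S.Z)
        (by omega) ?_ fun h hh => ?_
      · rw [← hZ]
        exact Nat.card_le_card_of_injective (fun x => (⟨(x.1 : R), x.2⟩ : S.Z))
          fun a b e => Subtype.ext (Subtype.ext (congrArg (fun y : S.Z => (y : R)) e))
      · let ψ : Subgroup.centralizer ({h} : Set H) →* R ⧸ S.Z :=
          ((QuotientGroup.mk' S.Z).comp H.subtype).comp (Subgroup.centralizer ({h} : Set H)).subtype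
        rw [← ψ.ker.index_mul_card, Subgroup.index_ker]
        refine le_trans (Nat.mul_le_mul ?_ ?_) (show 4 * 3 ≤ 12 by norm_num)
        · exact (Subgroup.card_le_card_group _).trans hidx
        · refine le_trans (Nat.card_le_card_of_injective
            (fun x => (⟨((x.1.1 : H) : R), (QuotientGroup.eq_one_iff _).1 x.2,
              Subgroup.mem_centralizer_singleton_iff.2 ?_⟩ :
              (S.Z ⊓ Subgroup.centralizer ({(h : R)} : Set R) : Subgroup R))) fun a b e => ?_) (hfix _ hh)
          · exact congrArg Subtype.val (Subgroup.mem_centralizer_singleton_iff.1 x.1.2)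
          · exact Subtype.ext (Subtype.ext (Subtype.ext (congrArg
              (fun y : (S.Z ⊓ Subgroup.centralizer ({(h : R)} : Set R) : Subgroup R) => (y : R)) e)))
    omega
  · obtain ⟨i, j, hi, hj, hi1, hj1, hij⟩ :=
      exists_pow_split Nat.prime_two h1 h2 ((card_mul_of_compl hinf hsup).trans hW)
    have b1 := table_two.{u} i U (subHom R U hU).range hi (by rw [tabTop, if_pos rfl]; omega)
      (fun w => Subtype.ext (hexp w)) (solvable_subHom U hU) (compRed_subHom hcr U hU)
    have b2 := table_two.{u} j U' (subHom R U' hU').range hj (by rw [tabTop, if_pos rfl]; omega)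
      (fun w => Subtype.ext (hexp w)) (solvable_subHom U' hU') (compRed_subHom hcr U' hU')
    have hinj : ∀ g, subHom R U hU g = 1 → subHom R U' hU' g = 1 → g = 1 := fun g =>
      eq_one_of_subHom hsup hU hU'
    rcases (show i = 2 ∨ i = 1 ∨ i = 3 by omega) with rfl | hi'
    · obtain rfl : j = 2 := by omega
      exact (kcl_le_nine_of_pair ((subHom R U hU).comp H.subtype) ((subHom R U' hU').comp H.subtype)
        hi hj fun h e e' => Subtype.ext (hinj h e e')).trans (by norm_num)
    · refine hsmall ?_
      have hle : Nat.card R ≤ orderTab 2 i * orderTab 2 j := by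
        refine le_trans ?_ (Nat.mul_le_mul b1 b2)
        rw [← Nat.card_prod]
        refine Nat.card_le_card_of_injective
          (fun g => ((subHom R U hU).rangeRestrict g, (subHom R U' hU').rangeRestrict g)) fun g h e => ?_
        refine inv_mul_eq_one.1 (hinj _ ?_ ?_)
        · rw [map_mul, map_inv, inv_mul_eq_one]
          exact congrArg Subtype.val (congrArg Prod.fst e)
        · rw [map_mul, map_inv, inv_mul_eq_one]
          exact congrArg Subtype.val (congrArg Prod.snd e)
      rcases hi' with rfl | rfl
      · obtain rfl : j = 3 := by omega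
        exact hle.trans (by decide)
      · obtain rfl : j = 1 := by omega
        exact hle.trans (by decide)
  · let a : Fin m := ⟨0, by omega⟩
    have hVa := D.card_eq_pow hirr a
    rw [hW, Fintype.card_fin] at hVa
    obtain ⟨d, hd, hd1, hdm⟩ := exists_pow_root Nat.prime_two (D.one_lt_card_comp a) (by omega) hVa
    have hm4 : m ≤ 4 := hdm ▸ Nat.le_mul_of_pos_left m hd1
    have hb : ∀ i, Nat.card (D.blockHom i).range ≤ orderTab 2 d := fun i =>
      table_two.{u} d (D.W i) (D.blockHom i).range ((D.card_comp_eq hirr i a).trans hd)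
        (by
          have := Nat.le_mul_of_pos_right d (show 0 < m by omega)
          rw [tabTop, if_pos rfl]; omega)
        (fun w => Subtype.ext (hexp w)) (D.blockHom_solvable i)
        (compRed_of_irred (D.blockHom_irred hirr i))
    have hfaith : ∀ g : R, (∀ v : W, g • v = v) → g = 1 :=
      fun g hg => Subtype.ext (Units.ext (DFunLike.ext _ _ hg))
    rcases (show d = 1 ∨ d = 2 by
        rcases Nat.lt_or_ge d 3 with h | h
        · omega
        · exfalso; nlinarith) with rfl | rfl
    · refine hsmall ((D.card_le_factorial_mul hfaith _ hb).trans ?_)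
      obtain rfl : m = 4 := by omega
      rw [Fintype.card_fin]
      decide
    obtain rfl : m = 2 := by omega
    let K' : Subgroup H := D.permHom.ker.subgroupOf H
    have hidx : K'.index ≤ 2 := by
      have : (D.permHom.ker).relIndex H ≤ 2 := by
        refine (Subgroup.relIndex_le_of_le_right le_top
          (by rw [Subgroup.relIndex_top_right]; exact Subgroup.index_ne_zero_of_finite)).trans ?_
        rw [Subgroup.relIndex_top_right, Subgroup.index_ker]
        refine (Subgroup.card_le_card_group _).trans (le_of_eq ?_)
        rw [Nat.card_perm, Nat.card_fin]; rfl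
      exact this
    refine (kcl_le_index_mul K').trans ((Nat.mul_le_mul hidx ?_).trans (show 2 * 9 ≤ 27 by norm_num))
    let j : K' →* D.permHom.ker :=
      MonoidHom.mk' (fun x => ⟨((x : H) : R), x.2⟩) fun x y => rfl
    refine kcl_le_nine_of_pair ((D.kerHom 0).comp j) ((D.kerHom 1).comp j)
      ((D.card_comp_eq hirr 0 a).trans hd) ((D.card_comp_eq hirr 1 a).trans hd) fun h e e' => ?_
    refine Subtype.ext (Subtype.ext (hfaith _ fun v => D.smul_eq_of_kerHom (j h) (fun i => ?_) v))
    fin_cases i
    · exact e
    · exact e'

end CfsgLib.RegOrbit
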