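import Cfsg.Agent.Lib.RegOrbit.FittingClasses.Order
import Cfsg.Agent.Lib.RegOrbit.FittingClasses.Decomp

/-!
# The orders of small soluble completely reducible linear groups over the fields of two and three elements
-/

set_option autoImplicit false
set_option linter.all false

namespace CfsgLib.RegOrbit

universe u

open MulAction

/-- Bounds for the orders in dimension at most six over two, and four over three elements. -/
def orderTab (p n : ℕ) : ℕ :=
  if p = 2 then [1, 1, 6, 21, 72, 155, 1296].getD n 0 else [1, 2, 48, 96, 4608].getD n 0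

/-- The range of the table. -/
def tabTop (p : ℕ) : ℕ := if p = 2 then 6 else 4

/-- The bound on the image on a part of `F/Z`. -/
def partTab (q a : ℕ) : ℕ := if a = 1 then q * (q ^ 2 - 1) else 72

theorem tab_add : ∀ p ∈ [2, 3], ∀ i < 7, ∀ j < 7, 1 ≤ i → 1 ≤ j → i + j ≤ tabTop p →
    orderTab p i * orderTab p j ≤ orderTab p (i + j) := by decide

theorem tab_pow : ∀ p ∈ [2, 3], ∀ d < 7, ∀ m < 7, 1 ≤ d → 2 ≤ m → d * m ≤ tabTop p →
    m.factorial * orderTab p d ^ m ≤ orderTab p (d * m) := by decide

theorem tab_field : ∀ p ∈ [2, 3], ∀ f < 7, ∀ e < 7, 1 ≤ f → 1 ≤ e → f * e ≤ tabTop p →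
    f * (p ^ f - 1) ≤ orderTab p (f * e) := by decide

set_option synthInstance.maxHeartbeats 400000 in
set_option synthInstance.maxSize 1000 in
theorem tab_part : ∀ p ∈ [2, 3], ∀ f < 7, ∀ e < 7, ∀ q ∈ [2, 3, 5], ∀ a < 3, 1 ≤ f → 1 ≤ a →
    f * e ≤ tabTop p → q ∣ p ^ f - 1 → q ^ a ≤ e →
    f * partTab q a * (q ^ a) ^ 2 * (p ^ f - 1) ≤ orderTab p (f * e) := by decide

theorem tabTop_le (p : ℕ) : tabTop p ≤ 6 := by
  unfold tabTop
  split_ifs <;> omega

/-- The statement of the table for one prime. -/
def TableHolds (p : ℕ) : Prop :=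
  ∀ (n : ℕ) (W : Type u) [AddCommGroup W] [Finite W] (R : Subgroup (AddMonoid.End W)ˣ),
    Nat.card W = p ^ n → n ≤ tabTop p → (∀ w : W, p • w = 0) → Group.IsSolvable R →
    CompRed R W → Nat.card R ≤ orderTab p n

theorem eq_two_or_three {q a : ℕ} (hq : q.Prime) (ha : 1 ≤ a) (h : q ^ a ≤ 6) :
    q ∈ [2, 3, 5] ∧ a < 3 ∧ (a = 1 ∨ q = 2 ∧ a = 2) := by
  have hq2 := hq.two_le
  have ha3 : a < 3 := by
    by_contra hc
    have := (Nat.pow_le_pow_left hq2 a).trans h
    have := (Nat.pow_le_pow_right (show 1 ≤ 2 by omega) (Nat.le_of_not_lt hc)).trans this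
    omega
  have hq6 : q ≤ 6 := (Nat.le_self_pow (by omega) q).trans h
  interval_cases q <;> interval_cases a <;> simp_all (config := { decide := true })

theorem tableHolds_of (p : ℕ) (hp : p ∈ [2, 3]) (hsmall : p = 3 → TableHolds.{u} 2) :
    TableHolds.{u} p := by
  have hpp : p.Prime := by
    simp only [List.mem_cons, List.not_mem_nil, or_false] at hp
    rcases hp with rfl | rfl <;> norm_num
  haveI := Fact.mk hpp
  intro n
  induction n using Nat.strong_induction_on with
  | _ n ih =>
  intro W _ _ R hW hn hexp hsolv hcr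
  have hn6 := hn.trans (tabTop_le p)
  haveI := finiteGroup (G := R)
  rcases Nat.eq_zero_or_pos n with rfl | hn0
  · rw [pow_zero] at hW
    haveI := (Nat.card_eq_one_iff_unique.1 hW).1
    haveI : Subsingleton R := ⟨fun g h => Subtype.ext (Units.ext (DFunLike.ext _ _ fun w =>
      Subsingleton.elim _ _))⟩
    rw [Nat.card_unique]
    unfold orderTab
    split_ifs <;> rfl
  haveI : Nontrivial W := Finite.one_lt_card_iff_nontrivial.1
    (hW ▸ Nat.one_lt_pow hn0.ne' hpp.one_lt)
  rcases prim_or_split hpp hexp R hcr with hprim | ⟨U, U', hU, hU', hinf, hsup, h1, h2⟩ |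
      ⟨hirr, m, hm, ⟨D⟩⟩
  · obtain ⟨S⟩ := exists_setup hprim
    obtain ⟨f, hK, hf, hV, hle⟩ := S.card_le_parts
    have hne : f * S.dimK = n := Nat.pow_right_injective hpp.two_le (hV.symm.trans hW)
    set e := S.dimK with he
    have he1 : 1 ≤ e := S.dimK_pos
    have hf6 : f ≤ 6 := le_trans (Nat.le_mul_of_pos_right f he1) (hne ▸ hn6)
    have he6 : e ≤ 6 := le_trans (Nat.le_mul_of_pos_left e hf) (hne ▸ hn6)
    refine hle.trans ?_
    rw [hK, S.card_quot_eq_prod, ← hne]
    rw [← hne] at hn
    obtain ⟨t, ht, hte⟩ := S.exists_part_size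
    change ∏ s ∈ S.primes, t s ≤ e at hte
    change ∀ s ∈ S.primes, _ at ht
    rcases S.primes.eq_empty_or_nonempty with hP | ⟨q, hq⟩
    · rw [hP, Finset.prod_empty, Finset.prod_empty, mul_one, mul_one]
      exact tab_field p hp f (by omega) e (by omega) hf he1 hn
    have huniq : S.primes = {q} := by
      refine Finset.eq_singleton_iff_unique_mem.2 ⟨hq, fun r hr => by_contra fun hrq => ?_⟩
      have hq' := S.prime_of_mem hq
      have hr' := S.prime_of_mem hr
      have hlow : ∀ s ∈ S.primes, s ≤ t s := fun s hs => by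
        obtain ⟨a, ha, e', -⟩ := ht s hs
        rw [e']
        exact Nat.le_self_pow (by omega) s
      have h6 : 6 ≤ q * r := by
        have := hq'.two_le
        have := hr'.two_le
        rcases (show (3 ≤ q) ∨ (3 ≤ r) by omega) with h | h <;> nlinarith
      have hqr : q * r ≤ e := by
        refine le_trans ?_ hte
        refine le_trans (Nat.mul_le_mul (hlow q hq) (hlow r hr)) ?_
        rw [← Finset.prod_pair (Ne.symm hrq)]
        refine Finset.prod_le_prod_of_subset_of_one_le' (Finset.insert_subset hq (Finset.singleton_subset_iff.2 hr))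
          fun s hs _ => ?_
        exact le_trans (S.prime_of_mem hs).one_le (hlow s hs)
      have hf1 : f = 1 := by nlinarith
      have hdq := S.prime_dvd_sub_one hq
      have hdr := S.prime_dvd_sub_one hr
      rw [hK, hf1, pow_one] at hdq hdr
      have hp1 : 0 < p - 1 := by have := hpp.two_le; omega
      have hp3 : p ≤ 3 := by simp only [List.mem_cons, List.not_mem_nil, or_false] at hp; omega
      have := Nat.le_of_dvd hp1 hdq
      have := Nat.le_of_dvd hp1 hdr
      have := hq'.two_le
      have := hr'.two_le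
      omega
    rw [huniq, Finset.prod_singleton, Finset.prod_singleton]
    obtain ⟨a, ha, hta, hcard⟩ := ht q hq
    have hte' : q ^ a ≤ e := by rwa [huniq, Finset.prod_singleton, hta] at hte
    obtain ⟨hq235, ha3, hcase⟩ := eq_two_or_three (S.prime_of_mem hq) ha (hte'.trans he6)
    have hdvd : q ∣ p ^ f - 1 := hK ▸ S.prime_dvd_sub_one hq
    refine le_trans ?_ (tab_part p hp f (by omega) e (by omega) q hq235 a ha3 hf ha hn hdvd hte')
    rw [hcard]
    refine Nat.mul_le_mul_right _ (Nat.mul_le_mul_right _ (Nat.mul_le_mul_left _ ?_))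
    rcases hcase with rfl | ⟨rfl, rfl⟩
    · rw [partTab, if_pos rfl]
      exact S.card_map_CZ_le (S.prime_of_mem hq) (by rw [hcard, pow_one])
    · have hp3 : p = 3 := by
        simp only [List.mem_cons, List.not_mem_nil, or_false] at hp
        rcases hp with rfl | rfl
        · exfalso
          have := Nat.one_le_two_pow (n := f)
          obtain ⟨k, hk⟩ := hdvd
          have : 2 ∣ 2 ^ f := dvd_pow_self 2 (by omega)
          omega
        · rfl
      refine le_trans (Subgroup.card_le_of_le (Subgroup.map_le_range _ _)) ?_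
      refine le_trans (hsmall hp3 4 (S.Wa 2) (S.wAct 2).range ?_ (by decide) (S.nsmul_wa 2)
        (S.solvable_range 2) (S.compRed_range 2)) (le_of_eq ?_)
      · exact hcard.trans (by norm_num)
      · decide
  · obtain ⟨i, j, hi, hj, hi1, hj1, hij⟩ :=
      exists_pow_split hpp h1 h2 ((card_mul_of_compl hinf hsup).trans hW)
    haveI := hsolv
    have b1 := ih i (by omega) U (subHom R U hU).range hi (by omega)
      (fun w => Subtype.ext (hexp w)) (solvable_subHom U hU) (compRed_subHom hcr U hU)
    have b2 := ih j (by omega) U' (subHom R U' hU').range hj (by omega)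
      (fun w => Subtype.ext (hexp w)) (solvable_subHom U' hU') (compRed_subHom hcr U' hU')
    refine le_trans ?_ (hij ▸ tab_add p hp i (by omega) j (by omega) hi1 hj1 (hij ▸ hn))
    refine le_trans ?_ (Nat.mul_le_mul b1 b2)
    rw [← Nat.card_prod]
    refine Nat.card_le_card_of_injective
      (fun g => ((subHom R U hU).rangeRestrict g, (subHom R U' hU').rangeRestrict g)) fun g h e => ?_
    refine inv_mul_eq_one.1 (eq_one_of_subHom hsup hU hU' ?_ ?_)
    · rw [map_mul, map_inv, inv_mul_eq_one]
      exact congrArg Subtype.val (congrArg Prod.fst e)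
    · rw [map_mul, map_inv, inv_mul_eq_one]
      exact congrArg Subtype.val (congrArg Prod.snd e)
  · let a : Fin m := ⟨0, by omega⟩
    have hVa := D.card_eq_pow hirr a
    rw [hW, Fintype.card_fin] at hVa
    obtain ⟨d, hd, hd1, hdm⟩ := exists_pow_root hpp (D.one_lt_card_comp a) (by omega) hVa
    have hdlt : d < n := by
      rw [← hdm]; exact lt_mul_of_one_lt_right (by omega) (by omega)
    haveI := hsolv
    have hb : ∀ i, Nat.card (D.blockHom i).range ≤ orderTab p d := fun i =>
      ih d hdlt (D.W i) (D.blockHom i).range ((D.card_comp_eq hirr i a).trans hd) (by omega)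
        (fun w => Subtype.ext (hexp w)) (D.blockHom_solvable i)
        (compRed_of_irred (D.blockHom_irred hirr i))
    have hle := D.card_le_factorial_mul (fun g hg => Subtype.ext (Units.ext (DFunLike.ext _ _ hg)))
      _ hb
    rw [Fintype.card_fin] at hle
    refine hle.trans (hdm ▸ tab_pow p hp d (by omega) m ?_ hd1 hm (hdm ▸ hn))
    have : m ≤ d * m := Nat.le_mul_of_pos_left m hd1
    omega

theorem table_two : TableHolds.{u} 2 := tableHolds_of 2 (by simp) (fun h => absurd h (by norm_num))

theorem table_three : TableHolds.{u} 3 := tableHolds_of 3 (by simp) (fun _ => table_two)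

end CfsgLib.RegOrbit
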